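import Cfsg.Agent.H63.RankThree.Prelim
import Cfsg.Agent.H19.Misc
import Cfsg.Agent.H25.KazarinFinal
import Cfsg.Agent.H88.CentralInSolvableOvergroups
import Cfsg.Agent.H89.PrimePowerIndex
import Cfsg.Agent.H86.Basic
import Cfsg.Agent.S4033
import Cfsg.Agent.S4146
import Cfsg.Agent.S4160
import Cfsg.Agent.S0205

/-!
# Nonsolvable centre-free groups with three centraliser orders

`Tri G a t s`: the centraliser orders of non-identity elements are `a`, `t`, `s`, where the indices
belonging to `t` and `s` are coprime and `a` is minimal.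
-/

set_option autoImplicit false

namespace Cfsg.Agent.H63.RankThree

universe u

variable {G : Type u} [Group G]

/-- A normal subgroup which is solvable modulo a solvable normal subgroup. -/
theorem isSolvable_of_quotient_image {K H : Subgroup G} [K.Normal] (hK : Group.IsSolvable K)
    (hH : Group.IsSolvable H) (h : K ⊔ H = ⊤) : Group.IsSolvable G := by
  haveI := H88.CentralInSolvableOvergroups.isSolvable_sup K H hK hH
  exact solvable_of_surjective (f := (K ⊔ H : Subgroup G).subtype)
    fun g => ⟨⟨g, h ▸ Subgroup.mem_top g⟩, rfl⟩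

/-- A group with a solvable normal subgroup of prime power index is solvable. -/
theorem isSolvable_of_normal_index_pow [Finite G] {K : Subgroup G} [K.Normal]
    (hK : Group.IsSolvable K) {p k : ℕ} (hp : p.Prime) (h : K.index = p ^ k) :
    Group.IsSolvable G := by
  haveI := hK
  haveI := Fact.mk hp
  haveI : Group.IsNilpotent (G ⧸ K) :=
    (IsPGroup.of_card (n := k) (by rw [← Subgroup.index_eq_card, h])).isNilpotent
  haveI : Group.IsSolvable (G ⧸ K) := inferInstance
  exact solvable_of_ker_le_range K.subtype (QuotientGroup.mk' K) (by simp)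

theorem isSolvable_of_le {H K : Subgroup G} (h : H ≤ K) (hK : Group.IsSolvable K) :
    Group.IsSolvable H := by
  haveI := hK
  exact solvable_of_solvable_injective (Subgroup.inclusion_injective h)

section Normal

variable [Finite G]

/-- A normal `p`-subgroup lies in every subgroup of index prime to `p`. -/
theorem normal_pgroup_le {p : ℕ} [Fact p.Prime] {V : Subgroup G} [V.Normal] (hV : IsPGroup p V)
    {g : G} (hg : ¬ p ∣ (C g).index) : V ≤ C g := by
  obtain ⟨h, hh⟩ := exists_conj_le hV hg
  intro v hv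
  have := hh (h⁻¹ * v * h) (by simpa using (inferInstance : V.Normal).conj_mem v hv h⁻¹)
  simpa [mul_assoc] using this

/-- A minimal non-solvable normal subgroup. -/
theorem exists_minimal_nonsolvable (hns : ¬ Group.IsSolvable G) :
    ∃ N : Subgroup G, N.Normal ∧ ¬ Group.IsSolvable N ∧
      ∀ M : Subgroup G, M.Normal → M ≤ N → M ≠ N → Group.IsSolvable M := by
  have htop : Group.IsSolvable (⊤ : Subgroup G) → Group.IsSolvable G := fun h =>
    haveI := h
    solvable_of_surjective (f := (⊤ : Subgroup G).subtype) fun g => ⟨⟨g, Subgroup.mem_top g⟩, rfl⟩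
  have hne : {N : Subgroup G | N.Normal ∧ ¬ Group.IsSolvable N}.Nonempty :=
    ⟨⊤, inferInstance, fun h => hns (htop h)⟩
  obtain ⟨N, ⟨hN, hNs⟩, hmin⟩ := (Set.toFinite _).exists_minimal hne
  refine ⟨N, hN, hNs, fun M hM hle hne' => ?_⟩
  by_contra hMs
  exact hne' (le_antisymm hle (hmin ⟨hM, hMs⟩ hle))

/-- The relative index in a normal subgroup divides the index. -/
theorem relIndex_dvd_index (H N : Subgroup G) [N.Normal] : H.relIndex N ∣ H.index := by
  have e1 : Nat.card N * N.relIndex H = Nat.card ↥(H ⊔ N) := by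
    rw [← Subgroup.relIndex_sup_right H N, ← Subgroup.relIndex_bot_left N,
      Subgroup.relIndex_mul_relIndex ⊥ N (H ⊔ N) bot_le le_sup_right, Subgroup.relIndex_bot_left]
  have e2 : Nat.card H * H.relIndex (H ⊔ N) = Nat.card ↥(H ⊔ N) := by
    rw [← Subgroup.relIndex_bot_left H,
      Subgroup.relIndex_mul_relIndex ⊥ H (H ⊔ N) bot_le le_sup_left, Subgroup.relIndex_bot_left]
  have e3 : Nat.card ↥(H ⊓ N) * H.relIndex N = Nat.card N := by
    rw [← Subgroup.inf_relIndex_right, ← Subgroup.relIndex_bot_left (H ⊓ N),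
      Subgroup.relIndex_mul_relIndex ⊥ (H ⊓ N) N bot_le inf_le_right, Subgroup.relIndex_bot_left]
  have e4 : Nat.card ↥(H ⊓ N) * N.relIndex H = Nat.card H := by
    rw [← Subgroup.inf_relIndex_left, ← Subgroup.relIndex_bot_left (H ⊓ N),
      Subgroup.relIndex_mul_relIndex ⊥ (H ⊓ N) H bot_le inf_le_left, Subgroup.relIndex_bot_left]
  have : H.relIndex (H ⊔ N) = H.relIndex N := by
    refine Nat.eq_of_mul_eq_mul_left (Nat.card_pos : 0 < Nat.card H) ?_
    rw [e2, ← e1, ← e3, ← e4]; ring
  rw [← this]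
  exact Dvd.intro _ (Subgroup.relIndex_mul_index le_sup_left)

end Normal

/-- The three centraliser orders. -/
structure Tri (G : Type u) [Group G] (a t s : ℕ) : Prop where
  hZ : Subgroup.center G = ⊥
  hns : ¬ Group.IsSolvable G
  types : ∀ g : G, g ≠ 1 → cc g = a ∨ cc g = t ∨ cc g = s
  hext : ∃ g : G, g ≠ 1 ∧ cc g = t
  hexs : ∃ g : G, g ≠ 1 ∧ cc g = s
  hta : ¬ t ∣ a
  hsa : ¬ s ∣ a
  hts : ¬ t ∣ s
  hst : ¬ s ∣ t
  cop : ∀ g z : G, cc g = t → cc z = s → ((C g).index).Coprime (C z).index

theorem index_ne_one_of_center [Finite G] (hZ : Subgroup.center G = ⊥) {g : G} (hg : g ≠ 1) :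
    (C g).index ≠ 1 := by
  intro e
  rw [Subgroup.index_eq_one] at e
  refine hg ?_
  rw [← Subgroup.mem_bot, ← hZ, Subgroup.mem_center_iff]
  exact fun w => (mem_C.1 (e ▸ Subgroup.mem_top w)).eq

namespace Tri

variable [Finite G] {a t s : ℕ} (h : Tri G a t s)
include h

theorem symm : Tri G a s t :=
  ⟨h.hZ, h.hns, fun g hg => (h.types g hg).imp id Or.symm, h.hexs, h.hext, h.hsa, h.hta, h.hst,
    h.hts, fun g z hg hz => (h.cop z g hz hg).symm⟩

theorem dvd_card {g : G} : cc g ∣ Nat.card G := Subgroup.card_subgroup_dvd_card _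

theorem ne_one_t {g : G} (hg : cc g = t) : g ≠ 1 := by
  rintro rfl
  obtain ⟨z, -, hz⟩ := h.hexs
  refine h.hst (hz ▸ hg ▸ ?_)
  exact Subgroup.card_dvd_of_le fun w _ => mem_C.2 (Commute.one_right w)

theorem eq_a {g : G} (hg : g ≠ 1) (hd : cc g ∣ a) : cc g = a := by
  rcases h.types g hg with e | e | e
  · exact e
  · exact absurd (e ▸ hd) h.hta
  · exact absurd (e ▸ hd) h.hsa

theorem dvd_t {g : G} (hg : g ≠ 1) (hd : cc g ∣ t) : cc g = a ∨ cc g = t := by
  rcases h.types g hg with e | e | e
  · exact Or.inl e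
  · exact Or.inr e
  · exact absurd (e ▸ hd) h.hst

theorem dvd_s {g : G} (hg : g ≠ 1) (hd : cc g ∣ s) : cc g = a ∨ cc g = s := h.symm.dvd_t hg hd

/-- An element of minimal type commuting with an element of coprime order. -/
theorem le_of_a {u v : G} (hu : u ≠ 1) (huv : Commute u v) (hco : (orderOf u).Coprime (orderOf v))
    (ha : cc u = a) : C u ≤ C v := by
  have hle := C_mul_le huv hco
  have h1 := mul_ne_one_of_coprime hu hco
  have he : cc (u * v) = a := h.eq_a h1 (ha ▸ Subgroup.card_dvd_of_le hle)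
  rw [← eq_C_of_le hle (by rw [he, ha]), huv.eq]
  exact C_mul_le huv.symm hco.symm

theorem index_eq {g g' : G} (e : cc g = cc g') : (C g).index = (C g').index :=
  Nat.eq_of_mul_eq_mul_left (cc_pos g') (by rw [index_mul_cc, ← e, index_mul_cc])

theorem cc_eq {g g' : G} (e : (C g).index = (C g').index) : cc g = cc g' :=
  Nat.eq_of_mul_eq_mul_right (Nat.pos_of_ne_zero (C g').index_ne_zero_of_finite)
    (by rw [index_mul_cc, ← e, index_mul_cc])

theorem index_t_ne_one {g : G} (hg : cc g = t) : (C g).index ≠ 1 :=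
  index_ne_one_of_center h.hZ (h.ne_one_t hg)

/-- The index of type `a` is not the product of the other two. -/
theorem index_a_ne {g z x : G} (hg : cc g = t) (hz : cc z = s) (hx : x ≠ 1) (hxa : cc x = a) :
    (C x).index ≠ (C g).index * (C z).index := by
  intro e
  have h1 := Nat.one_lt_iff_ne_zero_and_ne_one.2 ⟨(C g).index_ne_zero_of_finite, h.index_t_ne_one hg⟩
  have h2 := Nat.one_lt_iff_ne_zero_and_ne_one.2
    ⟨(C z).index_ne_zero_of_finite, h.symm.index_t_ne_one hz⟩
  refine h.hns ?_
  obtain ⟨hnil, -, -⟩ := S4146.result (G := G) (C g).index (C z).index h1 h2 (h.cop g z hg hz) (by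
    ext m
    simp only [Set.mem_range, Set.mem_insert_iff, Set.mem_singleton_iff]
    constructor
    · rintro ⟨w, rfl⟩
      rcases eq_or_ne w 1 with rfl | hw
      · exact Or.inl (Subgroup.index_eq_one.2
          (eq_top_iff.2 fun v _ => mem_C.2 (Commute.one_right v)))
      · rcases h.types w hw with e' | e' | e'
        · exact Or.inr (Or.inr (Or.inr ((h.index_eq (e'.trans hxa.symm)).trans e)))
        · exact Or.inr (Or.inl (h.index_eq (e'.trans hg.symm)))
        · exact Or.inr (Or.inr (Or.inl (h.index_eq (e'.trans hz.symm))))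
    · rintro (rfl | rfl | rfl | rfl)
      · exact ⟨1, Subgroup.index_eq_one.2 (eq_top_iff.2 fun v _ => mem_C.2 (Commute.one_right v))⟩
      · exact ⟨g, rfl⟩
      · exact ⟨z, rfl⟩
      · exact ⟨x, e⟩)
  haveI := hnil
  infer_instance

/-- Elements of types `t` and `s` of coprime order do not commute. -/
theorem not_commute_coprime {g z : G} (hg : cc g = t) (hz : cc z = s)
    (hco : (orderOf g).Coprime (orderOf z)) (hgz : Commute g z) : False := by
  have e : C (g * z) = C g ⊓ C z := by
    refine le_antisymm (le_inf (C_mul_le hgz hco) (hgz.eq ▸ C_mul_le hgz.symm hco.symm))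
      fun w hw => ?_
    exact mem_C.2 ((mem_C.1 hw.1).mul_right (mem_C.1 hw.2))
  have hi : (C (g * z)).index = (C g).index * (C z).index := by
    rw [e]; exact (H19.index_inf_of_coprime (h.cop g z hg hz)).1
  have h1 := mul_ne_one_of_coprime (h.ne_one_t hg) hco
  have hg0 := Nat.pos_of_ne_zero (C g).index_ne_zero_of_finite
  have hz0 := Nat.pos_of_ne_zero (C z).index_ne_zero_of_finite
  rcases h.types _ h1 with e' | e' | e'
  · exact h.index_a_ne hg hz h1 e' hi
  · exact h.symm.index_t_ne_one hz
      ((Nat.mul_eq_left hg0.ne').1 (hi.symm.trans (h.index_eq (e'.trans hg.symm))))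
  · exact h.index_t_ne_one hg
      ((Nat.mul_eq_right hz0.ne').1 (hi.symm.trans (h.index_eq (e'.trans hz.symm))))

omit h in
theorem solvable_of_proper {H : Type*} [Group H] [Finite H] {p : ℕ} (hp : p.Prime) {k : ℕ}
    (hk : ∀ u : H, (orderOf u).Coprime p →
      (Subgroup.centralizer ({u} : Set H)).index = 1 ∨ (Subgroup.centralizer ({u} : Set H)).index = k) :
    Group.IsSolvable H := by
  haveI := Fact.mk hp
  by_cases hall : ∀ u : H, (orderOf u).Coprime p →
      (Subgroup.centralizer ({u} : Set H)).index = 1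
  · -- `H/Z(H)` is a `p`-group
    have hp' : IsPGroup p (H ⧸ Subgroup.center H) := by
      intro q
      induction q using QuotientGroup.induction_on with | _ g => ?_
      obtain ⟨e, m, hm, he⟩ := Nat.exists_eq_pow_mul_and_not_dvd (orderOf_pos g).ne' p hp.ne_one
      refine ⟨e, ?_⟩
      rw [← QuotientGroup.mk_pow, QuotientGroup.eq_one_iff, Subgroup.mem_center_iff]
      have ho : (orderOf (g ^ p ^ e)).Coprime p := by
        rw [orderOf_pow, he, Nat.gcd_eq_right (Dvd.intro _ rfl),
          Nat.mul_div_cancel_left _ (pow_pos hp.pos e)]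
        exact ((Nat.Prime.coprime_iff_not_dvd hp).2 hm).symm
      intro w
      have h1 := Subgroup.index_eq_one.1 (hall _ ho)
      exact Subgroup.mem_centralizer_singleton_iff.1
        (h1 ▸ Subgroup.mem_top w : w ∈ Subgroup.centralizer ({g ^ p ^ e} : Set H))
    haveI : Group.IsNilpotent (H ⧸ Subgroup.center H) := hp'.isNilpotent
    haveI : Group.IsSolvable (H ⧸ Subgroup.center H) := inferInstance
    haveI : Group.IsSolvable (Subgroup.center H) :=
      Group.isSolvable_of_comm fun a b => mul_comm' a b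
    exact solvable_of_ker_le_range (Subgroup.center H).subtype
      (QuotientGroup.mk' (Subgroup.center H)) (by simp)
  push Not at hall
  obtain ⟨u₀, hu₀, hu₀'⟩ := hall
  have hk1 : k ≠ 1 := fun e => hu₀' (by rcases hk u₀ hu₀ with h1 | h1 <;> omega)
  have hrange : (Set.range fun x : {x : H // (orderOf x).Coprime p} =>
      (ConjClasses.mk (x : H)).carrier.ncard) = {1, k} := by
    ext n
    simp only [Set.mem_range, Set.mem_insert_iff, Set.mem_singleton_iff,
      H86.ncard_carrier_eq_index]
    constructor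
    · rintro ⟨⟨u, hu⟩, rfl⟩; exact hk u hu
    · rintro (rfl | rfl)
      · exact ⟨⟨1, by simp⟩, Subgroup.index_eq_one.2 (eq_top_iff.2 fun v _ =>
          Subgroup.mem_centralizer_singleton_iff.2 (by simp))⟩
      · exact ⟨⟨u₀, hu₀⟩, (hk u₀ hu₀).resolve_left hu₀'⟩
  rcases S4033.result (G := H) hp (by rw [hrange, Set.ncard_pair (Ne.symm hk1)]) with
    ⟨A, hA, -, e, he⟩ | ⟨q, hq, P, Q, A, -, hA, hcard, hn, -, htop⟩
  · exact H89.isSolvable_of_abelian_primePowIndex (s := e) hp A hA (dvd_of_eq he)
  · haveI := hn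
    obtain ⟨i, hi⟩ := IsPGroup.iff_card.1 P.2
    obtain ⟨j, hj⟩ := IsPGroup.iff_card.1 Q.2
    have hPQ := Cfsg.Agent.H25.isSolvable_of_card_eq_mul_pow
      (G := ↥((P : Subgroup H) ⊔ (Q : Subgroup H))) hp hq.out (hi ▸ hj ▸ hcard)
    have hAs : Group.IsSolvable A := Group.isSolvable_of_comm fun a b =>
      Subtype.ext ((Subgroup.mem_center_iff.1 (hA a.2) b).symm)
    exact isSolvable_of_quotient_image hPQ hAs htop

/-- Every centraliser of a non-identity element is solvable. -/
theorem solvable_C {g : G} (hg : g ≠ 1) : Group.IsSolvable (C g) := by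
  obtain ⟨k, p, hp, hv, -⟩ := exists_pow_prime hg
  refine isSolvable_of_le (C_le_pow g k) ?_
  set v := g ^ k
  have hv1 : v ≠ 1 := fun e => hp.one_lt.ne' (by rw [← hv, e, orderOf_one])
  have key : ∀ w : C v, (orderOf w).Coprime p → cc (w * v : G) * (Subgroup.centralizer ({w} : Set (C v))).index = cc v := by
    intro w hw
    have hco : (orderOf (w : G)).Coprime (orderOf v) := by rwa [hv, Subgroup.orderOf_coe]
    have hwv : Commute (w : G) v := mem_C.1 w.2
    have e : (Subgroup.centralizer ({w} : Set (C v))).map (C v).subtype = C ((w : G) * v) := by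
      ext x
      rw [Subgroup.mem_map]
      constructor
      · rintro ⟨x, hx, rfl⟩
        exact mem_C.2 (Commute.mul_right (congrArg Subtype.val
          (Subgroup.mem_centralizer_singleton_iff.1 hx)) (mem_C.1 x.2))
      · intro hx
        have h1 := C_mul_le hwv hco hx
        have h2 : x ∈ C v := C_mul_le hwv.symm hco.symm (hwv.eq ▸ hx)
        exact ⟨⟨x, h2⟩, Subgroup.mem_centralizer_singleton_iff.2 (Subtype.ext (mem_C.1 h1).eq), rfl⟩
    rw [cc, ← e, Nat.card_congr (Subgroup.equivMapOfInjective _ _ Subtype.val_injective).symm.toEquiv,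
      (Subgroup.centralizer ({w} : Set (C v))).card_mul_index]
    rfl
  have hne : ∀ w : C v, (orderOf w).Coprime p → (w : G) * v ≠ 1 ∧ cc ((w : G) * v) ∣ cc v := by
    intro w hw
    have hco : (orderOf (w : G)).Coprime (orderOf v) := by rwa [hv, Subgroup.orderOf_coe]
    have hwv : Commute (w : G) v := mem_C.1 w.2
    refine ⟨?_, Subgroup.card_dvd_of_le (hwv.eq ▸ C_mul_le hwv.symm hco.symm)⟩
    rw [hwv.eq]
    exact mul_ne_one_of_coprime hv1 hco.symm
  -- the value on a proper centraliser is `a`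
  refine solvable_of_proper (H := C v) hp (k := cc v / a) fun w hw => ?_
  obtain ⟨h1, hd⟩ := hne w hw
  have hk := key w hw
  have hpos := cc_pos ((w : G) * v)
  have hcases : cc ((w : G) * v) = cc v ∨ cc ((w : G) * v) = a := by
    rcases h.types v hv1 with e | e | e
    · exact Or.inl ((h.eq_a h1 (e ▸ hd)).trans e.symm)
    · rcases h.dvd_t h1 (e ▸ hd) with e' | e'
      · exact Or.inr e'
      · exact Or.inl (e'.trans e.symm)
    · rcases h.dvd_s h1 (e ▸ hd) with e' | e'
      · exact Or.inr e'
      · exact Or.inl (e'.trans e.symm)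
  rcases hcases with e | e
  · left
    rw [e] at hk
    exact (Nat.mul_eq_left (cc_pos v).ne').1 hk
  · right
    rw [← hk, e, Nat.mul_div_cancel_left _ (e ▸ hpos)]

/-- The index of every centraliser shares a prime with a non-solvable normal subgroup. -/
theorem exists_prime_index {g : G} (hg : g ≠ 1) (N : Subgroup G) [N.Normal]
    (hN : ¬ Group.IsSolvable N) :
    ∃ r : ℕ, r.Prime ∧ r ∣ (C g).index ∧ r ∣ Nat.card N ∧ r ∣ (C g).relIndex N := by
  have hne : (C g).relIndex N ≠ 1 := fun e =>
    hN (isSolvable_of_le (Subgroup.relIndex_eq_one.1 e) (h.solvable_C hg))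
  obtain ⟨r, hr, hd⟩ := Nat.exists_prime_and_dvd hne
  refine ⟨r, hr, hd.trans ?_, hd.trans (Subgroup.index_dvd_card _), hd⟩
  exact relIndex_dvd_index (C g) N

/-- A normal subgroup that is minimal non-solvable has no prime with a normal complement. -/
theorem not_complement {N : Subgroup G} [N.Normal] (hN : ¬ Group.IsSolvable N)
    (hmin : ∀ M : Subgroup G, M.Normal → M ≤ N → M ≠ N → Group.IsSolvable M)
    {q : ℕ} (hq : q.Prime) (hd : q ∣ Nat.card N) : ¬ Cfsg.HasNormalPComplement q G := by
  rintro ⟨P, K, hK, hc⟩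
  haveI := Fact.mk hq
  haveI := hK
  obtain ⟨i, hi⟩ := IsPGroup.iff_card.1 P.2
  by_cases hle : N ≤ K
  · have hdK : q ∣ Nat.card K := hd.trans (Subgroup.card_dvd_of_le hle)
    have hKP : Nat.card K = (P : Subgroup G).index := hc.index_eq_card.symm
    exact P.not_dvd_index (hKP ▸ hdK)
  · have hM : Group.IsSolvable (N ⊓ K : Subgroup G) := hmin _ inferInstance inf_le_left
      fun e => hle (inf_eq_left.1 e)
    refine hN ?_
    haveI : ((N ⊓ K).subgroupOf N).Normal := Subgroup.normal_subgroupOf
    have hdvd : ((N ⊓ K).subgroupOf N).index ∣ q ^ i := by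
      show (N ⊓ K).relIndex N ∣ q ^ i
      rw [Subgroup.inf_relIndex_left, ← hi, ← hc.symm.index_eq_card]
      exact Subgroup.relIndex_dvd_index_of_normal _ _
    obtain ⟨j, -, hj⟩ := (Nat.dvd_prime_pow hq).1 hdvd
    haveI := hM
    have hM' : Group.IsSolvable ((N ⊓ K).subgroupOf N) :=
      solvable_of_solvable_injective
        (f := (Subgroup.subgroupOfEquivOfLe (inf_le_left : N ⊓ K ≤ N)).toMonoidHom)
        (MulEquiv.injective _)
    exact isSolvable_of_normal_index_pow hM' hq hj

/-- Primes of a minimal non-solvable normal subgroup dividing a big index divide the type `a`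
index. -/
theorem dvd_index_a {N : Subgroup G} [N.Normal] (hN : ¬ Group.IsSolvable N)
    (hmin : ∀ M : Subgroup G, M.Normal → M ≤ N → M ≠ N → Group.IsSolvable M)
    {g x : G} (hg : cc g = t) (hx : cc x = a) {q : ℕ} (hq : q.Prime) (hqg : q ∣ (C g).index)
    (hqN : q ∣ Nat.card N) : q ∣ (C x).index := by
  by_contra hno
  obtain ⟨z, hz1, hz⟩ := h.hexs
  obtain ⟨r, hr, hrz, hrN, -⟩ := h.exists_prime_index hz1 N hN
  have hne : q ≠ r := by
    rintro rfl
    exact hq.not_dvd_one ((h.cop g z hg hz) ▸ Nat.dvd_gcd hqg hrz)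
  have hall : ∀ w : G, ¬ q * r ∣ (C w).index := by
    intro w hw
    have hqw := (Dvd.intro r rfl).trans hw
    have hrw := (Dvd.intro_left q rfl).trans hw
    rcases eq_or_ne w 1 with rfl | hw1
    · rw [Subgroup.index_eq_one.2 (eq_top_iff.2 fun v _ => mem_C.2 (Commute.one_right v))] at hqw
      exact hq.not_dvd_one hqw
    · rcases h.types w hw1 with e | e | e
      · exact hno (h.index_eq (e.trans hx.symm) ▸ hqw)
      · exact hr.not_dvd_one ((h.cop w z e hz) ▸ Nat.dvd_gcd hrw hrz)
      · exact hq.not_dvd_one ((h.cop g w hg e) ▸ Nat.dvd_gcd hqg hqw)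
  rcases S4160.result q r hq hr hne ⟨g, hqg⟩ ⟨z, hrz⟩ hall with hc | hc
  · exact h.not_complement hN hmin hq hqN hc
  · exact h.not_complement hN hmin hr hrN hc

end Tri

end Cfsg.Agent.H63.RankThree
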