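import Cfsg.Agent.H63.RankThreeGen.NotA

/-!
# The central vector has odd index, and a `q`-element shares its centraliser
-/

set_option autoImplicit false

namespace Cfsg.Agent.H63.RankThree

universe u

variable {G : Type u} [Group G] [Finite G]

/-- A minimal non-solvable normal subgroup has even order. -/
theorem two_dvd_nonsolvable {N : Subgroup G} (hN : ¬ Group.IsSolvable N) : 2 ∣ Nat.card N := by
  by_contra hodd
  exact hN (Cfsg.Agent.S0205.result (G := N) (by rwa [← Nat.not_even_iff_odd, even_iff_two_dvd]))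

/-- The normaliser of a cyclic subgroup is solvable if the centraliser of its generator is. -/
theorem isSolvable_normalizer_zpowers {z : G} (hC : Group.IsSolvable (C z)) :
    Group.IsSolvable (Subgroup.normalizer (Subgroup.zpowers z : Set G)) := by
  set N1 := Subgroup.normalizer (Subgroup.zpowers z : Set G) with hN1
  have hker : (Abelianization.of (G := N1)).ker ≤ (C z).subgroupOf N1 := by
    rw [Abelianization.ker_of]
    rw [commutator_eq_closure, Subgroup.closure_le]
    rintro c ⟨x, y, rfl⟩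
    have hx : ∀ u : N1, ∃ i : ℤ, (u : G) * z * (u : G)⁻¹ = z ^ i := fun u => by
      obtain ⟨i, hi⟩ := Subgroup.mem_zpowers_iff.1
        ((Subgroup.mem_normalizer_iff.1 u.2 z).1 (Subgroup.mem_zpowers z))
      exact ⟨i, hi.symm⟩
    obtain ⟨i, hi⟩ := hx x
    obtain ⟨j, hj⟩ := hx y
    obtain ⟨i', hi'⟩ := hx x⁻¹
    obtain ⟨j', hj'⟩ := hx y⁻¹
    have app : ∀ (u : G) (m n : ℤ), u * z * u⁻¹ = z ^ m → u * z ^ n * u⁻¹ = z ^ (m * n) := by
      intro u m n hu
      rw [← conj_zpow, hu, ← zpow_mul]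
    have exy : (x : G) * y * z * ((x : G) * y)⁻¹ = z ^ (i * j) := by
      rw [← app x i j hi, ← hj]; group
    have eyx : (y : G) * x * z * ((y : G) * x)⁻¹ = z ^ (j * i) := by
      rw [← app y j i hj, ← hi]; group
    show ((x * y * x⁻¹ * y⁻¹ : N1) : G) ∈ C z
    have h1 : (x : G) * y * z * ((x : G) * y)⁻¹ = (y : G) * x * z * ((y : G) * x)⁻¹ := by
      rw [exy, eyx, mul_comm i j]
    have h2 : ((y : G) * x)⁻¹ * ((x : G) * y) ∈ C z := mem_C.2 <| mul_inv_eq_iff_eq_mul.1 <| by
      rw [show ((y : G) * x)⁻¹ * ((x : G) * y) * z * (((y : G) * x)⁻¹ * ((x : G) * y))⁻¹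
        = ((y : G) * x)⁻¹ * ((x : G) * y * z * ((x : G) * y)⁻¹) * ((y : G) * x) by group, h1]
      group
    -- transport by `y x`
    have h3 := conj_mem_C_conj ((y : G) * x) h2
    rw [show ((x * y * x⁻¹ * y⁻¹ : N1) : G) = ((y : G) * x) * (((y : G) * x)⁻¹ * ((x : G) * y)) *
        ((y : G) * x)⁻¹ by push_cast; group]
    rw [eyx] at h3
    have hz : z ∈ Subgroup.zpowers (z ^ (j * i)) := by
      have : Subgroup.zpowers (z ^ (j * i)) = Subgroup.zpowers z := by
        refine Subgroup.eq_of_le_of_card_ge (Subgroup.zpowers_le.2 (zpow_mem (Subgroup.mem_zpowers z) _)) ?_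
        rw [Nat.card_zpowers, Nat.card_zpowers, ← eyx]
        exact le_of_eq (orderOf_injective (MulAut.conj ((y : G) * x)).toMonoidHom
          (MulEquiv.injective _) z).symm
      rw [this]; exact Subgroup.mem_zpowers z
    obtain ⟨k, hk⟩ := Subgroup.mem_zpowers_iff.1 hz
    rw [← hk]
    exact mem_C.2 ((mem_C.1 h3).zpow_right k)
  haveI : Group.IsSolvable (C z) := hC
  haveI : Group.IsSolvable ((C z).subgroupOf N1) :=
    solvable_of_solvable_injective
      (f := (N1.subtype.comp ((C z).subgroupOf N1).subtype).codRestrict (C z) fun x => x.2)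
      (fun a b e => Subtype.ext (Subtype.ext (congrArg (fun w : C z => (w : G)) e)))
  refine solvable_of_ker_le_range ((C z).subgroupOf N1).subtype (Abelianization.of (G := N1)) ?_
  rwa [Subgroup.range_subtype]

/-- A normal subgroup of `N` that is solvable lies in a solvable normal subgroup of `G`. -/
theorem exists_solvable_normal {N : Subgroup G} [hN : N.Normal] {M : Subgroup G} (hM : M ≤ N)
    (hMn : N ≤ Subgroup.normalizer (M : Set G)) (hMs : Group.IsSolvable M) :
    ∃ K : Subgroup G, K.Normal ∧ Group.IsSolvable K ∧ M ≤ K := by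
  set S := {X : Subgroup G | X ≤ N ∧ N ≤ Subgroup.normalizer (X : Set G) ∧ Group.IsSolvable X ∧ M ≤ X}
  obtain ⟨X, ⟨hXN, hXn, hXs, hMX⟩, hmax⟩ :=
    (Set.toFinite S).exists_maximal ⟨M, hM, hMn, hMs, le_rfl⟩
  refine ⟨X, ⟨fun x hx g => ?_⟩, hXs, hMX⟩
  set Y := X.map (MulAut.conj g).toMonoidHom with hY
  have hYN : Y ≤ N := by
    rintro _ ⟨u, hu, rfl⟩; exact hN.conj_mem u (hXN hu) g
  have hYn : N ≤ Subgroup.normalizer (Y : Set G) := by
    intro n hn
    refine Subgroup.mem_normalizer_fintype fun u hu => ?_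
    obtain ⟨u, hu', rfl⟩ := hu
    refine ⟨(g⁻¹ * n * g) * u * (g⁻¹ * n * g)⁻¹,
      (Subgroup.mem_normalizer_iff.1 (hXn ?_) u).1 hu', ?_⟩
    · simpa using hN.conj_mem n hn g⁻¹
    · simp [mul_assoc]
  have hYs : Group.IsSolvable Y := by
    haveI := hXs
    exact solvable_of_surjective ((MulAut.conj g).toMonoidHom.subgroupMap_surjective X)
  have hsup : X ⊔ Y ∈ S := by
    refine ⟨sup_le hXN hYN, ?_,
      H54.isSolvable_sup_of_le_normalizer hXs hYs (hYN.trans hXn), hMX.trans le_sup_left⟩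
    intro n hn
    rw [Subgroup.mem_normalizer_iff_map_conj_eq, Subgroup.map_sup,
      (Subgroup.mem_normalizer_iff_map_conj_eq).1 (hXn hn),
      (Subgroup.mem_normalizer_iff_map_conj_eq).1 (hYn hn)]
  exact hmax hsup le_sup_left (Subgroup.mem_sup_right ⟨x, hx, rfl⟩)

namespace Rad

variable {a t s p : ℕ} {V : Subgroup G} {v : G} (h : Rad G a t s p V v)
include h

/-- Primes dividing `|G : C v|` and a minimal non-solvable normal subgroup: central elements of
order such a prime are of type `s` and lie outside `W`. -/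
theorem central_type {l : ℕ} [Fact l.Prime] (hlt : l ∣ (C v).index) {N : Subgroup G} [N.Normal]
    (hNs : ¬ Group.IsSolvable N)
    (hmin : ∀ M : Subgroup G, M.Normal → M ≤ N → M ≠ N → Group.IsSolvable M) (hlN : l ∣ Nat.card N)
    {z : G} (hz : orderOf z = l) {T : Sylow l G} (hT : (T : Subgroup G) ≤ C z) :
    cc z = s := by
  have hz1 : z ≠ 1 := fun e => (Fact.out : l.Prime).one_lt.ne' (by rw [← hz, e, orderOf_one])
  have hzi := index_not_dvd_of_sylow_le T hT
  rcases h.tri.types z hz1 with e | e | e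
  · exact absurd (h.tri.dvd_index_a hNs hmin h.hvt e Fact.out hlt hlN) hzi
  · exact absurd ((h.tri.index_eq (e.trans h.hvt.symm)) ▸ hlt) hzi
  · exact e

theorem ne_p {l : ℕ} (hlt : l ∣ (C v).index) : l ≠ p := fun e => h.hidx (e ▸ hlt)

/-- Such primes do not divide `|W|`. -/
theorem not_dvd_W {l : ℕ} [Fact l.Prime] (hlt : l ∣ (C v).index) {N : Subgroup G} [N.Normal]
    (hNs : ¬ Group.IsSolvable N)
    (hmin : ∀ M : Subgroup G, M.Normal → M ≤ N → M ≠ N → Group.IsSolvable M)
    (hlN : l ∣ Nat.card N) : ¬ l ∣ Nat.card (W V) := by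
  intro hd
  haveI := h.W_normal
  obtain ⟨T, z, hz, hzW, -, hT⟩ := exists_central_normal (W V) hd
  have hco : (orderOf z).Coprime p := by
    rw [hz]; exact (Nat.coprime_primes Fact.out h.hp).2 (h.ne_p hlt)
  exact h.tri.not_commute_coprime h.hvt (h.central_type hlt hNs hmin hlN hz hT)
    (h.coprime_vec h.hv hco).symm (mem_W.1 hzW v h.hv).symm

/-- The index of the central vector is odd. -/
theorem odd_index_v : ¬ 2 ∣ (C v).index := by
  intro h2
  haveI := Fact.mk Nat.prime_two
  haveI := h.normal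
  obtain ⟨N, hN, hNs, hmin⟩ := exists_minimal_nonsolvable h.tri.hns
  haveI := hN
  have h2N := two_dvd_nonsolvable hNs
  obtain ⟨T, z, hz, -, -, hT⟩ := exists_central_normal N h2N
  have hzs := h.central_type h2 hNs hmin h2N hz hT
  have hzp : (orderOf z).Coprime p := by
    rw [hz]; exact (Nat.coprime_primes Nat.prime_two h.hp).2 (h.ne_p h2)
  have hz2 : z * z = 1 := by rw [← pow_two, ← hz, pow_orderOf_eq_one]
  have hfree : ∀ w ∈ V, Commute z w → w = 1 := fun w hw hc => by
    by_contra hw1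
    exact h.fpf_s hzs hzp hw hw1 hc
  have hinv : ∀ u ∈ V, z * u * z⁻¹ = u⁻¹ := fun u hu =>
    inverse_of_no_fixed h.hVab h.normal hu (by rw [hz2]; exact Commute.one_left u) hfree
  have hzi : z⁻¹ = z := inv_eq_of_mul_eq_one_right hz2
  refine h.tri.hns (@isSolvable_of_odd_mod G _ _ (W V) h.W_normal h.W_solvable ?_ z hz2
    (fun g => ?_) (h.tri.solvable_C (h.tri.symm.ne_one_t hzs)))
  · rw [← Nat.not_even_iff_odd, even_iff_two_dvd]
    exact h.not_dvd_W h2 hNs hmin h2N
  · refine mem_W.2 fun u hu => mul_inv_eq_iff_eq_mul.1 ?_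
    have hu' : g⁻¹ * u⁻¹ * g ∈ V := by
      simpa using h.normal.conj_mem _ (V.inv_mem hu) g⁻¹
    calc g * z * g⁻¹ * z⁻¹ * u * (g * z * g⁻¹ * z⁻¹)⁻¹
        = g * (z * (g⁻¹ * (z⁻¹ * u * z) * g) * z⁻¹) * g⁻¹ := by group
      _ = g * (z * (g⁻¹ * u⁻¹ * g) * z⁻¹) * g⁻¹ := by
          rw [show z⁻¹ * u * z = u⁻¹ by
            have := hinv u hu
            rw [hzi] at this ⊢
            exact this]
      _ = u := by rw [hinv _ hu']; group

/-- A `q`-element, `q ≠ p`, with the centraliser of the central vector. -/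
theorem exists_w : ∃ (q : ℕ) (w : G), q.Prime ∧ q ≠ p ∧ orderOf w = q ∧ w ∈ W V ∧ C w = C v := by
  haveI := h.normal
  obtain ⟨N, hN, hNs, hmin⟩ := exists_minimal_nonsolvable h.tri.hns
  haveI := hN
  obtain ⟨z₀, hz₀1, hz₀⟩ := h.tri.hexs
  by_cases hgood : ∃ q : ℕ, q.Prime ∧ q ≠ p ∧ q ∣ (C z₀).index ∧ q ∣ Nat.card N
  · obtain ⟨q, hq, hqp, hqz, hqN⟩ := hgood
    haveI := Fact.mk hq
    obtain ⟨T, w₀, hw₀, -, -, hT⟩ := exists_central_normal N hqN
    have hqv : ¬ q ∣ (C v).index := fun e =>
      hq.not_dvd_one ((h.tri.cop v z₀ h.hvt hz₀) ▸ Nat.dvd_gcd e hqz)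
    obtain ⟨k, hk⟩ := exists_conj_le T.2 hqv
    set w := k * w₀ * k⁻¹ with hw
    have hwo : orderOf w = q := by
      rw [hw, ← MulAut.conj_apply, MulEquiv.orderOf_eq, hw₀]
    have hw1 : w ≠ 1 := fun e => hq.one_lt.ne' (by rw [← hwo, e, orderOf_one])
    have hTle : (T : Subgroup G).map (MulAut.conj k).toMonoidHom ≤ C v ⊓ C w := by
      rintro _ ⟨x, hx, rfl⟩
      exact ⟨hk x hx, conj_mem_C_conj k (hT hx)⟩
    have hnd : ∀ H : Subgroup G, (T : Subgroup G).map (MulAut.conj k).toMonoidHom ≤ H →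
        ¬ q ∣ H.index := by
      intro H hH e
      refine T.not_dvd_index ?_
      have := e.trans (Subgroup.index_dvd_of_le hH)
      rwa [show ((T : Subgroup G).map (MulAut.conj k).toMonoidHom).index = (T : Subgroup G).index from
        Subgroup.index_map_equiv (T : Subgroup G) (MulAut.conj k)] at this
    have hwt : cc w = t := by
      have hwi : ¬ q ∣ (C w).index := hnd _ (hTle.trans inf_le_right)
      rcases h.tri.types w hw1 with e | e | e
      · exact absurd (h.tri.symm.dvd_index_a hNs hmin hz₀ e hq hqz hqN) hwi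
      · exact e
      · exact absurd (h.tri.index_eq (e.trans hz₀.symm) ▸ hqz) hwi
    have hwW := h.mem_W_of_t hwt
    have hco : (orderOf w).Coprime (orderOf v) :=
      h.coprime_vec h.hv (by rw [hwo]; exact (Nat.coprime_primes hq h.hp).2 hqp)
    have hwv : Commute w v := mem_W.1 hwW v h.hv
    have h1 := mul_ne_one_of_coprime hw1 hco
    have hle1 := C_mul_le hwv hco
    have hle2 : C (w * v) ≤ C v := by rw [hwv.eq]; exact C_mul_le hwv.symm hco.symm
    have hwvt : cc (w * v) = t := by
      rcases h.tri.dvd_t h1 (hwt ▸ Subgroup.card_dvd_of_le hle1) with e | e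
      · refine absurd (h.tri.symm.dvd_index_a hNs hmin hz₀ e hq hqz hqN) (hnd _ fun x hx => ?_)
        exact mem_C.2 ((mem_C.1 (hTle hx).2).mul_right (mem_C.1 (hTle hx).1))
      · exact e
    refine ⟨q, w, hq, hqp, hwo, hwW, ?_⟩
    rw [← eq_C_of_le hle1 (by rw [hwvt, hwt]), eq_C_of_le hle2 (by rw [hwvt, h.hvt])]
  push Not at hgood
  exfalso
  obtain ⟨l, hl, hlt, hlN, -⟩ := h.tri.exists_prime_index h.hv1 N hNs
  haveI := Fact.mk hl
  obtain ⟨T, z, hz, hzN, hzT, hT⟩ := exists_central_normal N hlN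
  have hzs := h.central_type hlt hNs hmin hlN hz hT
  have hlW := h.not_dvd_W hlt hNs hmin hlN
  have hlp : ∀ e : G, orderOf e = l → (orderOf e).Coprime p := fun e he => by
    rw [he]; exact (Nat.coprime_primes hl h.hp).2 (h.ne_p hlt)
  -- elements of order `l` commuting with `z` fix no vector
  have hfree : ∀ e : G, orderOf e = l → Commute e z → ∀ u ∈ V, u ≠ 1 → Commute e u → False := by
    intro e he hez u hu hu1 heu
    have he1 : e ≠ 1 := fun e' => hl.one_lt.ne' (by rw [← he, e', orderOf_one])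
    rcases h.tri.types e he1 with ec | ec | ec
    · exact h.fpf_s hzs (hlp z hz) hu hu1
        (mem_C.1 (h.tri.le_of_a he1 heu (h.coprime_vec hu (hlp e he)) ec (mem_C.2 hez.symm)))
    · refine hlW ?_
      rw [← he, show orderOf e = orderOf (⟨e, h.mem_W_of_t ec⟩ : W V) from
        (Subgroup.orderOf_mk e _).symm]
      exact orderOf_dvd_natCard _
    · exact h.fpf_s ec (hlp e he) hu hu1 heu
  have huniq : ∀ e : G, orderOf e = l → Commute e z → e ∈ Subgroup.zpowers z := by
    intro e he hez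
    by_contra hmem
    have hEc : IsMulCommutative (Subgroup.closure ({z, e} : Set G)) :=
      Subgroup.isMulCommutative_closure (by
        rintro x (rfl | rfl) y (rfl | rfl) <;> first | rfl | exact hez.eq | exact hez.eq.symm)
    set E := Subgroup.closure ({z, e} : Set G) with hE
    have hexp : ∀ x ∈ E, x ^ l = 1 ∧ Commute x z := by
      intro x hx
      refine ⟨?_, ?_⟩
      · induction hx using Subgroup.closure_induction with
        | mem y hy =>
          rcases hy with rfl | rfl
          · rw [← hz, pow_orderOf_eq_one]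
          · rw [← he, pow_orderOf_eq_one]
        | one => simp
        | mul y w hy hw ihy ihw =>
          have : Commute y w := congrArg Subtype.val (hEc.is_comm.comm (⟨y, hy⟩ : E) ⟨w, hw⟩)
          rw [this.mul_pow, ihy, ihw, one_mul]
        | inv y _ ih => rw [inv_pow, ih, inv_one]
      · have hz' : z ∈ E := Subgroup.subset_closure (Or.inl rfl)
        exact congrArg Subtype.val (hEc.is_comm.comm (⟨x, hx⟩ : E) ⟨z, hz'⟩)
    have hEcard : (Nat.card E).Coprime (Nat.card V) := by
      haveI := Fact.mk h.hp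
      obtain ⟨j, hj⟩ := IsPGroup.iff_card.1 h.hVp
      obtain ⟨i, hi⟩ := IsPGroup.iff_card.1 (show IsPGroup l E from fun x => ⟨1, Subtype.ext (by
        rw [pow_one]; exact (hexp x x.2).1)⟩)
      rw [hi, hj]
      exact Nat.Coprime.pow _ _ ((Nat.coprime_primes hl h.hp).2 (h.ne_p hlt))
    have hVle : V ≤ (⊥ : Subgroup G) := by
      refine H54.le_of_cocyclic_centralizers_le (E := E) (Y := V) ?_ hEcard fun E₀ hE₀ x hx hgen => ?_
      · rw [Subgroup.normalizer_eq_top]; exact le_top
      intro u hu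
      rw [Subgroup.mem_bot]
      by_contra hu1
      by_cases hbot : E₀ = ⊥
      · subst hbot
        rw [bot_sup_eq] at hgen
        have hcz : z ∈ Subgroup.zpowers x := hgen (Subgroup.subset_closure (Or.inl rfl))
        have hce : e ∈ Subgroup.zpowers x := hgen (Subgroup.subset_closure (Or.inr rfl))
        have heq : Subgroup.zpowers z = Subgroup.zpowers x := by
          refine Subgroup.eq_of_le_of_card_ge (Subgroup.zpowers_le.2 hcz) ?_
          rw [Nat.card_zpowers, Nat.card_zpowers, hz]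
          exact orderOf_le_of_pow_eq_one hl.pos (hexp x hx).1
        exact hmem (heq ▸ hce)
      · obtain ⟨⟨e₀, he₀⟩, hne⟩ := Subgroup.ne_bot_iff_exists_ne_one.1 hbot
        have hne' : e₀ ≠ 1 := fun e' => hne (Subtype.ext e')
        obtain ⟨h1, h2⟩ := hexp e₀ (hE₀ he₀)
        refine hfree e₀ (orderOf_eq_prime h1 hne') h2 u hu.1 hu1 ?_
        exact (Subgroup.mem_centralizer_iff.1 hu.2 e₀ he₀)
    exact h.hv1 (Subgroup.mem_bot.1 (hVle h.hv))
  -- a solvable normal subgroup containing `z`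
  set zN : N := ⟨z, hzN⟩
  have hcN : Subgroup.centralizer ({zN} : Set N) = (C z).subgroupOf N := by
    ext x
    rw [Subgroup.mem_centralizer_singleton_iff, Subgroup.mem_subgroupOf, mem_C, commute_iff_eq]
    exact Subtype.ext_iff
  have hidx : (Subgroup.centralizer ({zN} : Set N)).index =
      p ^ ((C z).relIndex N).primeFactorsList.length := by
    rw [hcN]
    show (C z).relIndex N = _
    refine Nat.eq_prime_pow_of_unique_prime_dvd (C z |>.subgroupOf N).index_ne_zero_of_finite
      fun {d} hd hdd => ?_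
    by_contra hne
    refine hgood d hd hne ?_ (hdd.trans (Subgroup.index_dvd_card _))
    rw [← h.tri.index_eq (hzs.trans hz₀.symm)]
    exact hdd.trans (relIndex_dvd_index _ _)
  have hMs := H25.isSolvable_normalClosure h.hp zN ⟨_, hidx⟩
  set M := (Subgroup.normalClosure ({zN} : Set N)).map N.subtype with hM
  have hMs' : Group.IsSolvable M := by
    haveI := hMs
    exact solvable_of_surjective (N.subtype.subgroupMap_surjective _)
  obtain ⟨K, hK, hKs, hMK⟩ := exists_solvable_normal (N := N) (M := M)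
    (Subgroup.map_subtype_le _) (by
      intro n hn
      refine Subgroup.mem_normalizer_fintype fun u hu => ?_
      obtain ⟨u, hu', rfl⟩ := hu
      exact ⟨⟨n, hn⟩ * u * ⟨n, hn⟩⁻¹, Subgroup.normalClosure_normal.conj_mem u hu' _, rfl⟩) hMs'
  haveI := hK
  have hzK : z ∈ K := hMK ⟨zN, Subgroup.subset_normalClosure rfl, rfl⟩
  -- the Frattini argument
  have hTK : IsPGroup l ((T : Subgroup G).subgroupOf K) :=
    T.2.comap_of_injective K.subtype Subtype.val_injective
  have hTKi : ¬ l ∣ ((T : Subgroup G).subgroupOf K).index := fun e =>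
    T.not_dvd_index (e.trans (relIndex_dvd_index _ _))
  have htop := Sylow.normalizer_sup_eq_top (hTK.toSylow hTKi)
  refine h.tri.hns (isSolvable_of_quotient_image (K := K) hKs ?_ (by rw [sup_comm]; exact htop))
  refine isSolvable_of_le ?_
    (isSolvable_normalizer_zpowers (h.tri.solvable_C (h.tri.symm.ne_one_t hzs)))
  intro g hg
  rw [IsPGroup.toSylow_coe, Subgroup.subgroupOf_map_subtype] at hg
  refine Subgroup.mem_normalizer_fintype fun x hx => ?_
  obtain ⟨i, rfl⟩ := Subgroup.mem_zpowers_iff.1 hx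
  rw [← conj_zpow]
  refine Subgroup.zpow_mem _ (huniq _ ?_ ?_) i
  · rw [← MulAut.conj_apply, MulEquiv.orderOf_eq, hz]
  · have hm : g * z * g⁻¹ ∈ (T : Subgroup G) ⊓ K :=
      (Subgroup.mem_normalizer_iff.1 hg z).1 ⟨hzT, hzK⟩
    exact mem_C.1 (hT hm.1)

end Rad

end Cfsg.Agent.H63.RankThree
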