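import Cfsg.Agent.H63.RankThreeGen.Fpf
import Cfsg.Agent.S3195

/-!
# Involutions modulo a normal subgroup of odd order
-/

set_option autoImplicit false

namespace Cfsg.Agent.H63.RankThree

universe u

variable {G : Type u} [Group G] [Finite G]

/-- An involution commuting with everything modulo an odd normal subgroup: `G = O · C(z)`. -/
theorem exists_mul_of_odd {O : Subgroup G} (ho : Odd (Nat.card O)) {z : G} (hz : z * z = 1)
    (hcomm : ∀ g : G, g * z * g⁻¹ * z⁻¹ ∈ O) (g : G) : ∃ d ∈ O, d⁻¹ * g ∈ C z := by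
  have hzi : z⁻¹ = z := inv_eq_of_mul_eq_one_right hz
  have hm := hcomm g
  set c := g * z * g⁻¹ * z⁻¹ with hc
  have hodd : Odd (orderOf c) := by
    refine ho.of_dvd_nat ?_
    rw [show orderOf c = orderOf (⟨c, hm⟩ : O) from (Subgroup.orderOf_mk c hm).symm]
    exact orderOf_dvd_natCard _
  obtain ⟨k, hk⟩ := hodd
  have hzc : z * c * z⁻¹ = c⁻¹ := by
    rw [hc, show (g * z * g⁻¹ * z⁻¹)⁻¹ = z * (g * z⁻¹ * g⁻¹) by group,
      show z * (g * z * g⁻¹ * z⁻¹) * z⁻¹ = z * (g * z * g⁻¹) * (z * z)⁻¹ by group, hz, hzi,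
      inv_one, mul_one]
  have hd2 : c ^ (k + 1) * c ^ (k + 1) = c := by
    rw [← pow_add, show k + 1 + (k + 1) = orderOf c + 1 by omega, pow_succ, pow_orderOf_eq_one,
      one_mul]
  refine ⟨c ^ (k + 1), O.pow_mem hm _, ?_⟩
  have hzd : z * c ^ (k + 1) * z⁻¹ = (c ^ (k + 1))⁻¹ := by rw [← conj_pow, hzc, inv_pow]
  have hg : g * z * g⁻¹ = c ^ (k + 1) * z * (c ^ (k + 1))⁻¹ := by
    calc g * z * g⁻¹ = c * z := by rw [hc]; group
      _ = c ^ (k + 1) * (c ^ (k + 1) * z) := by rw [← mul_assoc, hd2]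
      _ = c ^ (k + 1) * (z * (z * c ^ (k + 1) * z⁻¹)) := by
          congr 1
          rw [show z * (z * c ^ (k + 1) * z⁻¹) = (z * z) * c ^ (k + 1) * z⁻¹ by group, hz, one_mul,
            hzi]
      _ = c ^ (k + 1) * z * (c ^ (k + 1))⁻¹ := by rw [hzd]; group
  refine mem_C.2 ?_
  show (c ^ (k + 1))⁻¹ * g * z = z * ((c ^ (k + 1))⁻¹ * g)
  calc (c ^ (k + 1))⁻¹ * g * z = (c ^ (k + 1))⁻¹ * (g * z * g⁻¹) * g := by group
    _ = z * ((c ^ (k + 1))⁻¹ * g) := by rw [hg]; group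

/-- The group is solvable if `O` and `C z` are. -/
theorem isSolvable_of_odd_mod {O : Subgroup G} [O.Normal] (hO : Group.IsSolvable O)
    (ho : Odd (Nat.card O)) {z : G} (hz : z * z = 1) (hcomm : ∀ g : G, g * z * g⁻¹ * z⁻¹ ∈ O)
    (hC : Group.IsSolvable (C z)) : Group.IsSolvable G := by
  refine isSolvable_of_quotient_image (K := O) (H := C z) hO hC (eq_top_iff.2 fun g _ => ?_)
  obtain ⟨d, hd, hdg⟩ := exists_mul_of_odd ho hz hcomm g
  have := (O ⊔ C z).mul_mem (Subgroup.mem_sup_left hd) (Subgroup.mem_sup_right hdg)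
  rwa [mul_inv_cancel_left] at this

/-- A real element of odd order with centraliser of odd index is trivial. -/
theorem eq_one_of_real {v g : G} (hvo : Odd (orderOf v)) (hidx : ¬ 2 ∣ (C v).index)
    (hg : g * v * g⁻¹ = v⁻¹) : v = 1 := by
  obtain ⟨k, m, hm, hord⟩ := Nat.exists_eq_two_pow_mul_odd (orderOf_pos g).ne'
  obtain ⟨j, rfl⟩ := hm
  have hg2 : g * g ∈ C v := by
    refine mem_C.2 (mul_inv_eq_iff_eq_mul.1 ?_)
    calc g * g * v * (g * g)⁻¹ = g * (g * v * g⁻¹) * g⁻¹ := by group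
      _ = g * v⁻¹ * g⁻¹ := by rw [hg]
      _ = (g * v * g⁻¹)⁻¹ := by group
      _ = v := by rw [hg, inv_inv]
  set t := g ^ (2 * j + 1)
  have htv : t * v * t⁻¹ = v⁻¹ := by
    have e : t = (g * g) ^ j * g := by rw [← pow_two, ← pow_mul, ← pow_succ]
    rw [e, show (g * g) ^ j * g * v * ((g * g) ^ j * g)⁻¹
      = (g * g) ^ j * (g * v * g⁻¹) * ((g * g) ^ j)⁻¹ by group, hg,
      (mem_C.1 ((C v).pow_mem hg2 j)).inv_right.eq, mul_inv_cancel_right]
  have hto : orderOf t = 2 ^ k := by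
    rw [orderOf_pow, hord, Nat.gcd_eq_right (Dvd.intro_left _ rfl),
      Nat.mul_div_cancel _ (by omega)]
  have htm : t ∈ C v := by
    refine mem_of_normalizer (Subgroup.mem_normalizer_fintype fun u hu => ?_)
      (by rw [hto]; exact Nat.Coprime.pow_left _
            ((Nat.Prime.coprime_iff_not_dvd Nat.prime_two).2 hidx))
    have h := conj_mem_C_conj t hu
    rwa [htv, C_inv] at h
  rw [mul_inv_eq_iff_eq_mul.2 (mem_C.1 htm).eq] at htv
  exact S3195.eq_one_of_sq v hvo (mul_eq_one_iff_eq_inv.2 htv)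

end Cfsg.Agent.H63.RankThree
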