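import Cfsg.Agent.H63.RankThree.EvenB
import Cfsg.Agent.H63.RankThreeGen.Odd
import Cfsg.Agent.H63.RankThreeGen.Alpha

/-!
# Non-solvable groups with trivial centre and abelian centralisers are simple
-/

set_option autoImplicit false

namespace Cfsg.Agent.H63.RankThree

universe u

open scoped commutatorElement

variable {G : Type u} [Group G] [Finite G]

/-- All centralisers of non-identity elements are abelian. -/
def IsCA (G : Type u) [Group G] : Prop :=
  ∀ u : G, u ≠ 1 → ∀ g ∈ C u, ∀ g' ∈ C u, g * g' = g' * g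

namespace IsCA

variable (h : IsCA G)
include h

omit [Finite G] in
theorem C_eq {u w : G} (hu : u ≠ 1) (hw : w ≠ 1) (hwu : w ∈ C u) : C w = C u := by
  refine le_antisymm (fun x hx => mem_C.2 ?_) fun x hx => mem_C.2 (h u hu x hx w hwu)
  exact h w hw x hx u (mem_C.2 (mem_C.1 hwu).symm)

theorem solvable_C {u : G} (hu : u ≠ 1) : Group.IsSolvable (C u) :=
  Group.isSolvable_of_comm fun a b => Subtype.ext (h u hu a a.2 b b.2)

/-- A non-solvable CA-group has no abelian normal subgroup other than the trivial one. -/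
theorem false_of_abelian_normal (hns : ¬ Group.IsSolvable G) {V : Subgroup G} (hV : V.Normal)
    (hab : ∀ x ∈ V, ∀ y ∈ V, x * y = y * x) {v : G} (hv : v ∈ V) (hv1 : v ≠ 1) : False := by
  haveI := Fact.mk Nat.prime_two
  haveI := hV
  have hVC : V ≤ C v := fun x hx => mem_C.2 (hab x hx v hv)
  have hWC : Subgroup.centralizer (V : Set G) = C v := by
    refine le_antisymm (fun x hx => mem_C.2 (Subgroup.mem_centralizer_iff.1 hx v hv).symm) fun x hx => ?_
    exact Subgroup.mem_centralizer_iff.2 fun y hy => h v hv1 y (hVC hy) x hx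
  haveI hWn : (C v).Normal := hWC ▸ inferInstance
  have hWs := h.solvable_C hv1
  have hQs : ¬ Group.IsSolvable (G ⧸ C v) := fun hs => hns (by
    haveI := hs
    haveI := hWs
    exact solvable_of_ker_le_range (C v).subtype (QuotientGroup.mk' (C v)) (by simp))
  obtain ⟨i, hi⟩ := exists_prime_orderOf_dvd_card' (G := G ⧸ C v) 2 (by
    by_contra hodd
    exact hQs (S0205.result (by rwa [← Nat.not_even_iff_odd, even_iff_two_dvd])))
  induction i using QuotientGroup.induction_on with | _ g => ?_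
  have hg : g ∉ C v := fun e => by
    rw [(QuotientGroup.eq_one_iff g).2 e, orderOf_one] at hi; omega
  have hg2 : g * g ∈ C v := by
    rw [← QuotientGroup.eq_one_iff, QuotientGroup.mk_mul, ← pow_two, ← hi, pow_orderOf_eq_one]
  have hfree : ∀ u ∈ C v, Commute g u → u = 1 := fun u hu hgu => by
    by_contra hu1
    exact hg (h.C_eq hv1 hu1 hu ▸ mem_C.2 hgu)
  have hgg : g * g = 1 := hfree _ hg2 ((Commute.refl g).mul_right (Commute.refl g))
  have hinv : ∀ u ∈ C v, g * u * g⁻¹ = u⁻¹ := fun u hu =>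
    inverse_of_no_fixed (h v hv1) hWn hu (by rw [hgg]; exact Commute.one_left u) hfree
  have hgi : g⁻¹ = g := inv_eq_of_mul_eq_one_right hgg
  have hodd : Odd (Nat.card (C v)) := by
    rw [← Nat.not_even_iff_odd, even_iff_two_dvd]
    intro hd
    obtain ⟨u, hu, huo, hu1⟩ := exists_prime_mem Nat.prime_two hd
    refine hu1 (hfree u hu ?_)
    have := hinv u hu
    rw [inv_eq_of_mul_eq_one_right (by rw [← pow_two, ← huo, pow_orderOf_eq_one] : u * u = 1)] at this
    exact mul_inv_eq_iff_eq_mul.1 this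
  refine hns (isSolvable_of_odd_mod hWs hodd hgg (fun k => ?_)
    (h.solvable_C fun e => hg (e ▸ (C v).one_mem)))
  have hle : V ≤ C v := hVC
  rw [← hWC]
  refine Subgroup.mem_centralizer_iff.2 fun u hu => ?_
  have hu' : k⁻¹ * u⁻¹ * k ∈ V := by simpa using hV.conj_mem _ (V.inv_mem hu) k⁻¹
  have e : k * g * k⁻¹ * g⁻¹ * u * (k * g * k⁻¹ * g⁻¹)⁻¹ = u := by
    calc k * g * k⁻¹ * g⁻¹ * u * (k * g * k⁻¹ * g⁻¹)⁻¹
        = k * (g * (k⁻¹ * (g⁻¹ * u * g) * k) * g⁻¹) * k⁻¹ := by group
      _ = k * (g * (k⁻¹ * u⁻¹ * k) * g⁻¹) * k⁻¹ := by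
          rw [show g⁻¹ * u * g = u⁻¹ by
            have := hinv u (hle hu)
            rw [hgi] at this ⊢
            exact this]
      _ = u := by rw [hinv _ (hle hu')]; group
  exact (mul_inv_eq_iff_eq_mul.1 e).symm

/-- A non-solvable CA-group is simple. -/
theorem isSimpleGroup (hns : ¬ Group.IsSolvable G) : IsSimpleGroup G := by
  haveI := Fact.mk Nat.prime_two
  haveI : Nontrivial G := by
    by_contra hn
    rw [not_nontrivial_iff_subsingleton] at hn
    exact hns inferInstance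
  have hfree : ∀ K : Subgroup G, K.Normal → Group.IsSolvable K → K = ⊥ := by
    intro K hK hKs
    by_contra hne
    obtain ⟨V, ⟨hV, hVK, hVne⟩, hmin⟩ :=
      (Set.toFinite {X : Subgroup G | X.Normal ∧ X ≤ K ∧ X ≠ ⊥}).exists_minimal ⟨K, hK, le_rfl, hne⟩
    haveI := hV
    haveI : Group.IsSolvable V := isSolvable_of_le hVK hKs
    haveI : Nontrivial V := (Subgroup.nontrivial_iff_ne_bot V).2 hVne
    have hb : commutator V = ⊥ := by
      by_contra hb
      have hle := hmin (show (commutator V).map V.subtype ∈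
        {X : Subgroup G | X.Normal ∧ X ≤ K ∧ X ≠ ⊥} from
          ⟨inferInstance, (Subgroup.map_subtype_le _).trans hVK, fun e =>
            hb ((Subgroup.map_eq_bot_iff_of_injective _ Subtype.val_injective).1 e)⟩)
        (Subgroup.map_subtype_le _)
      refine (Group.IsSolvable.commutator_lt_top_of_nontrivial V).ne (eq_top_iff.2 fun x _ => ?_)
      obtain ⟨y, hy, hyx⟩ := hle x.2
      exact Subtype.val_injective hyx ▸ hy
    obtain ⟨⟨v, hv⟩, hv1⟩ := exists_ne (1 : V)
    refine h.false_of_abelian_normal hns hV (fun x hx y hy => ?_) hv fun e => hv1 (Subtype.ext e)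
    have hc : ⁅(⟨x, hx⟩ : V), ⟨y, hy⟩⁆ ∈ commutator V :=
      Subgroup.commutator_mem_commutator (Subgroup.mem_top _) (Subgroup.mem_top _)
    rw [hb, Subgroup.mem_bot, commutatorElement_eq_one_iff_mul_comm] at hc
    exact congrArg Subtype.val hc
  suffices key : ∀ N : Subgroup G, N.Normal → N ≠ ⊥ →
      (∀ X : Subgroup G, X.Normal → X ≤ N → X ≠ ⊥ → X = N) → N = ⊤ by
    refine ⟨fun K hK => or_iff_not_imp_left.2 fun hne => ?_⟩
    obtain ⟨N, ⟨hN, hNK, hNne⟩, hmin⟩ :=
      (Set.toFinite {X : Subgroup G | X.Normal ∧ X ≤ K ∧ X ≠ ⊥}).exists_minimal ⟨K, hK, le_rfl, hne⟩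
    exact eq_top_iff.2 ((key N hN hNne fun X hX hle hne' =>
      le_antisymm hle (hmin ⟨hX, hle.trans hNK, hne'⟩ hle)).ge.trans hNK)
  intro N hN hNne _
  haveI := hN
  have hNs : ¬ Group.IsSolvable N := fun hs => hNne (hfree N hN hs)
  obtain ⟨S, t, ht, htN, htS, hS⟩ := exists_central_normal N (two_dvd_nonsolvable hNs)
  have ht1 : t ≠ 1 := fun e => by simp [e] at ht
  have hCA := h t ht1
  have hTM : IsPGroup 2 ((S : Subgroup G).subgroupOf N) :=
    S.2.comap_of_injective N.subtype Subtype.val_injective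
  have hTMi : ¬ 2 ∣ ((S : Subgroup G).subgroupOf N).index := fun hd =>
    S.not_dvd_index (hd.trans (relIndex_dvd_index _ _))
  have hord : ∀ k : G, orderOf (k * t * k⁻¹) = 2 := fun k => by
    rw [← MulAut.conj_apply, MulEquiv.orderOf_eq, ht]
  -- a solvable subgroup normal in `N` is trivial
  have hNfree : ∀ X : Subgroup G, X ≤ N → N ≤ Subgroup.normalizer (X : Set G) →
      Group.IsSolvable X → X = ⊥ := by
    intro X hX hXn hXs
    obtain ⟨K, hK, hKs, hle⟩ := exists_solvable_normal hX hXn hXs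
    exact le_bot_iff.1 (hle.trans (hfree K hK hKs).le)
  -- an element of `N` moving `t` inside `S`
  obtain ⟨n, hn, hnS, hnt⟩ : ∃ n ∈ N, n * t * n⁻¹ ∈ (S : Subgroup G) ∧ n * t * n⁻¹ ≠ t := by
    by_contra hcon
    push Not at hcon
    obtain ⟨X, hX, hodd, hcomm⟩ := S0215.result (hTM.toSylow hTMi) (⟨t, htN⟩ : N)
      (by rw [Subgroup.orderOf_mk, ht]) (show t ∈ (S : Subgroup G) from htS)
      fun u hu => Subtype.ext (hcon u u.2 hu)
    haveI := hX
    haveI := S0205.result hodd
    have hb := hNfree (X.map N.subtype) (Subgroup.map_subtype_le _) (by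
      intro m hm
      refine Subgroup.mem_normalizer_fintype fun u hu => ?_
      obtain ⟨u, hu', rfl⟩ := hu
      exact ⟨⟨m, hm⟩ * u * ⟨m, hm⟩⁻¹, hX.conj_mem u hu' _, rfl⟩)
      (solvable_of_surjective (N.subtype.subgroupMap_surjective X))
    have hle : N ≤ C t := fun u hu => by
      have hm : (t * u * t⁻¹ * u⁻¹ : G) ∈ X.map N.subtype := ⟨_, hcomm ⟨u, hu⟩, rfl⟩
      rw [hb, Subgroup.mem_bot, mul_inv_eq_one, mul_inv_eq_iff_eq_mul] at hm
      exact mem_C.2 hm.symm
    exact hNs (isSolvable_of_le hle (h.solvable_C ht1))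
  have hnU : n ∉ C t := fun e => hnt (by rw [(mem_C.1 e).eq]; group)
  have hnt1 : n * t * n⁻¹ ≠ 1 := fun e => ht1 (conj_eq_one_iff.1 e)
  have hnC : C (n * t * n⁻¹) = C t := h.C_eq ht1 hnt1 (hS hnS)
  have hnmem : ∀ u ∈ C t, n * u * n⁻¹ ∈ C t := fun u hu => by
    rw [← hnC]; exact conj_mem_C_conj n hu
  -- `C t ≤ N`
  have hUN : C t ≤ N := by
    let f : C t → (C t ⊓ N : Subgroup G) := fun u => ⟨n * u * n⁻¹ * (u : G)⁻¹,
      (C t).mul_mem (hnmem u u.2) ((C t).inv_mem u.2), by
        rw [show n * (u : G) * n⁻¹ * (u : G)⁻¹ = n * ((u : G) * n⁻¹ * (u : G)⁻¹) by group]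
        exact N.mul_mem hn (hN.conj_mem _ (N.inv_mem hn) u)⟩
    have hinj : Function.Injective f := fun a b e => by
      have e' : n * (a : G) * n⁻¹ * (a : G)⁻¹ = n * (b : G) * n⁻¹ * (b : G)⁻¹ := congrArg Subtype.val e
      have hc : Commute n ((b : G)⁻¹ * a) := by
        refine mul_inv_eq_iff_eq_mul.1 ?_
        calc n * ((b : G)⁻¹ * a) * n⁻¹
            = (n * b * n⁻¹)⁻¹ * (n * a * n⁻¹ * (a : G)⁻¹) * a := by group
          _ = (n * b * n⁻¹)⁻¹ * (n * b * n⁻¹ * (b : G)⁻¹) * a := by rw [e']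
          _ = (b : G)⁻¹ * a := by group
      by_contra hne
      have hmem : (b : G)⁻¹ * a ∈ C t := (C t).mul_mem ((C t).inv_mem b.2) a.2
      have hne' : (b : G)⁻¹ * a ≠ 1 := fun e1 => hne (Subtype.ext (inv_mul_eq_one.1 e1).symm)
      exact hnU (h.C_eq ht1 hne' hmem ▸ mem_C.2 hc)
    have hle := Nat.card_le_card_of_injective f hinj
    exact inf_eq_left.1 (Subgroup.eq_of_le_of_card_ge inf_le_left hle)
  -- all involutions in `S ⊓ N` are conjugate to `t` in `N`
  obtain ⟨l, hl, hlU⟩ : ∃ l ∈ N, l * t * l⁻¹ ∉ C t := by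
    by_contra hall
    push Not at hall
    set K := Subgroup.closure {w | ∃ l ∈ N, w = l * t * l⁻¹} with hK
    have hKle : K ≤ C t := by
      rw [hK, Subgroup.closure_le]
      rintro _ ⟨l, hl, rfl⟩
      exact hall l hl
    have hKb := hNfree K (hKle.trans hUN) (by
      intro m hm
      refine Subgroup.mem_normalizer_fintype fun u hu => ?_
      show m * u * m⁻¹ ∈ K
      rw [hK] at hu ⊢
      induction hu using Subgroup.closure_induction with
      | mem w hw =>
        obtain ⟨l, hl, rfl⟩ := hw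
        exact Subgroup.subset_closure ⟨m * l, N.mul_mem hm hl, by group⟩
      | one => simpa using Subgroup.one_mem _
      | mul p q _ _ ihp ihq => simpa [mul_assoc] using Subgroup.mul_mem _ ihp ihq
      | inv p _ ihp => simpa [mul_assoc] using Subgroup.inv_mem _ ihp)
      (isSolvable_of_le hKle (h.solvable_C ht1))
    have : t ∈ K := Subgroup.subset_closure ⟨1, N.one_mem, by simp⟩
    rw [hKb, Subgroup.mem_bot] at this
    exact ht1 this
  set j := l * t * l⁻¹ with hj
  have hjN : j ∈ N := hN.conj_mem t htN l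
  have hjo : orderOf j = 2 := hord l
  have hconj : ∀ t' : G, orderOf t' = 2 → t' ∈ (S : Subgroup G) ⊓ N →
      ∃ m ∈ N, m * t * m⁻¹ = t' := by
    intro t' ht'o ht'
    have ht'1 : t' ≠ 1 := fun e => by simp [e] at ht'o
    have hC' : C t' = C t := h.C_eq ht1 ht'1 (hS ht'.1)
    have hjne : j ≠ t' := fun e => hlU (e ▸ hS ht'.1)
    have hodd : Odd (orderOf (j * t')) := by
      rw [← Nat.not_even_iff_odd, even_iff_two_dvd]
      intro hd
      set m := orderOf (j * t')
      set w := (j * t') ^ (m / 2)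
      have hm : m ≠ 0 := (orderOf_pos _).ne'
      have hw : orderOf w = 2 := by
        rw [orderOf_pow_of_dvd ((Nat.div_ne_zero_iff_of_dvd hd).2 ⟨hm, two_ne_zero⟩)
          (Nat.div_dvd_of_dvd hd), Nat.div_div_self hd hm]
      have hw1 : w ≠ 1 := fun e => by simp [e] at hw
      have ej : j * w * j⁻¹ = w := by
        rw [← conj_pow, show j * (j * t') * j⁻¹ = (j * j) * t' * j⁻¹ by group,
          mul_self_of_orderOf_two hjo, one_mul,
          show t' * j⁻¹ = (j * t')⁻¹ by rw [mul_inv_rev j t', inv_of_orderOf_two ht'o], inv_pow,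
          inv_of_orderOf_two hw]
      have et : t' * w * t'⁻¹ = w := by
        rw [← conj_pow, show t' * (j * t') * t'⁻¹ = t' * j by group,
          show t' * j = (j * t')⁻¹ by
            rw [mul_inv_rev j t', inv_of_orderOf_two ht'o, inv_of_orderOf_two hjo],
          inv_pow, inv_of_orderOf_two hw]
      have hwC : w ∈ C t := hC' ▸ mem_C.2 (mul_inv_eq_iff_eq_mul.1 et).symm
      exact hlU (h.C_eq ht1 hw1 hwC ▸ mem_C.2 (mul_inv_eq_iff_eq_mul.1 ej))
    obtain ⟨e, -, he, hemem⟩ := Ctx.exists_swap hjo ht'o hjne hodd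
    have heN : e ∈ N := (Subgroup.closure_le N).2
      (by rintro u (rfl | rfl); exacts [hjN, ht'.2]) hemem
    exact ⟨e * l, N.mul_mem heN hl, by rw [← he, hj]; group⟩
  -- Frattini
  have htop := Sylow.normalizer_sup_eq_top (hTM.toSylow hTMi)
  refine eq_top_iff.2 (htop.ge.trans (sup_le (fun g hg => ?_) le_rfl))
  rw [IsPGroup.toSylow_coe, Subgroup.subgroupOf_map_subtype] at hg
  obtain ⟨m, hm, hmt⟩ := hconj _ (hord g)
    ((Subgroup.mem_normalizer_iff.1 hg t).1 ⟨htS, htN⟩)
  have hc : m⁻¹ * g ∈ C t := mem_C.2 <| mul_inv_eq_iff_eq_mul.1 <| by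
    rw [show m⁻¹ * g * t * (m⁻¹ * g)⁻¹ = m⁻¹ * (g * t * g⁻¹) * m by group, ← hmt]; group
  have := N.mul_mem hm (hUN hc)
  rwa [mul_inv_cancel_left] at this

end IsCA

end Cfsg.Agent.H63.RankThree
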