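import Cfsg.Agent.H63.RankThreeGen.Alpha
import Cfsg.Agent.S0215

/-!
# An odd minimal normal subgroup gives a contradiction
-/

set_option autoImplicit false

namespace Cfsg.Agent.H63.RankThree

universe u

variable {G : Type u} [Group G] [Finite G]

/-- A `2`-element in a given coset of a subgroup containing the square. -/
theorem exists_two_elem {H : Subgroup G} {g : G} (h2 : g * g ∈ H) :
    ∃ (g' : G) (k : ℕ), orderOf g' = 2 ^ k ∧ g⁻¹ * g' ∈ H := by
  obtain ⟨k, m, hm, hord⟩ := Nat.exists_eq_two_pow_mul_odd (orderOf_pos g).ne'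
  obtain ⟨j, rfl⟩ := hm
  refine ⟨g ^ (2 * j + 1), k, ?_, ?_⟩
  · rw [orderOf_pow, hord, Nat.gcd_eq_right (Dvd.intro_left _ rfl),
      Nat.mul_div_cancel _ (by omega)]
  · rw [pow_succ', inv_mul_cancel_left, pow_mul, pow_two]
    exact H.pow_mem h2 j

namespace Rad

variable {a t s p : ℕ} {V : Subgroup G} {v : G} (h : Rad G a t s p V v)
include h

theorem a_dvd {u : G} (hu : u ≠ 1) (hd : cc u ∣ t) (hne : cc u ≠ t) : cc u = a :=
  (h.tri.dvd_t hu hd).resolve_right hne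

/-- Solvability of the normaliser of a type `t` centraliser. -/
theorem isSolvable_normalizer_C {u : G} (hu : cc u = t) :
    Group.IsSolvable (Subgroup.normalizer (C u : Set G)) := by
  have hCs := h.tri.solvable_C (h.tri.ne_one_t hu)
  set N1 := Subgroup.normalizer (C u : Set G)
  haveI : ((C u).subgroupOf N1).Normal := Subgroup.normal_in_normalizer
  have hodd : Odd (Nat.card (N1 ⧸ (C u).subgroupOf N1)) := by
    rw [← Nat.not_even_iff_odd, even_iff_two_dvd]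
    intro hd
    refine h.odd_index_v ?_
    rw [← h.tri.index_eq (hu.trans h.hvt.symm)]
    exact hd.trans (Subgroup.relIndex_dvd_index_of_le Subgroup.le_normalizer)
  haveI := S0205.result hodd
  haveI := hCs
  haveI : Group.IsSolvable ((C u).subgroupOf N1) :=
    solvable_of_solvable_injective
      (f := (Subgroup.subgroupOfEquivOfLe (Subgroup.le_normalizer (H := C u))).toMonoidHom)
      (MulEquiv.injective _)
  exact solvable_of_ker_le_range ((C u).subgroupOf N1).subtype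
    (QuotientGroup.mk' ((C u).subgroupOf N1)) (by simp)

/-- The contradiction for odd `p`. -/
theorem false_of_odd (hp2 : p ≠ 2) : False := by
  haveI := Fact.mk Nat.prime_two
  haveI := Fact.mk h.hp
  haveI := h.normal
  haveI := h.W_normal
  obtain ⟨q, w, hq, hqp, hwo, hwW, hCw⟩ := h.exists_w
  have hw1 : w ≠ 1 := fun e => hq.one_lt.ne' (by rw [← hwo, e, orderOf_one])
  have hwp : (orderOf w).Coprime p := by rw [hwo]; exact (Nat.coprime_primes hq h.hp).2 hqp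
  have hwt : cc w = t := by rw [cc, hCw]; exact h.hvt
  have hVodd : ∀ u ∈ V, Odd (orderOf u) := fun u hu => by
    obtain ⟨k, hk⟩ := IsPGroup.iff_orderOf.1 h.hVp ⟨u, hu⟩
    rw [show orderOf u = orderOf (⟨u, hu⟩ : V) from (Subgroup.orderOf_mk u hu).symm, hk]
    exact (h.hp.odd_of_ne_two hp2).pow
  -- no vector of type `s`
  have hnos : ∀ u ∈ V, cc u ≠ s := fun u hu hus =>
    h.tri.not_commute_coprime hwt hus (h.coprime_vec hu hwp) (mem_W.1 hwW u hu)
  -- vectors of type `a`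
  have hvecA : ∀ u ∈ V, u ≠ 1 → cc u = a → C u = W V := by
    intro u hu hu1 hua
    refine le_antisymm (fun x hx => ?_) fun x hx => mem_C.2 (mem_W.1 hx u hu)
    let M : Subgroup G :=
      { carrier := {m | m ∈ V ∧ ∀ (k : G) (y : G), y ∈ C (k * u * k⁻¹) → Commute y m}
        mul_mem' := fun {m n} hm hn => ⟨V.mul_mem hm.1 hn.1,
          fun k y hy => (hm.2 k y hy).mul_right (hn.2 k y hy)⟩
        one_mem' := ⟨V.one_mem, fun k y _ => Commute.one_right y⟩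
        inv_mem' := fun {m} hm => ⟨V.inv_mem hm.1, fun k y hy => (hm.2 k y hy).inv_right⟩ }
    haveI hMn : M.Normal := ⟨fun m hm g => ⟨h.normal.conj_mem m hm.1 g, fun k y hy => by
      have h1 := conj_mem_C_conj g⁻¹ hy
      rw [show g⁻¹ * (k * u * k⁻¹) * g⁻¹⁻¹ = (g⁻¹ * k) * u * (g⁻¹ * k)⁻¹ by group] at h1
      have h2 := (Commute.conj_iff g).2 (hm.2 _ _ h1)
      simpa [mul_assoc] using h2⟩⟩
    have hvM : v ∈ M := ⟨h.hv, fun k y hy => by
      have hk1 : k * u * k⁻¹ ≠ 1 := fun e => hu1 (conj_eq_one_iff.1 e)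
      have hka : cc (k * u * k⁻¹) = a := (cc_conj k u).trans hua
      have hkV := h.normal.conj_mem u hu k
      have hle := h.tri.le_of_a hk1 (mem_W.1 hwW _ hkV).symm (h.coprime_vec hkV hwp).symm hka
      exact mem_C.1 (hCw ▸ hle hy)⟩
    have hMV : M = V := h.hmin M hMn (fun m hm => hm.1) fun e => h.hv1 (by
      rw [e, Subgroup.mem_bot] at hvM; exact hvM)
    exact mem_W.2 fun m hm => (hMV ▸ hm : m ∈ M).2 1 x (by simpa using hx)
  -- inverted vectors have centraliser `W`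
  have hinvA : ∀ (g : G), ∀ d ∈ V, d ≠ 1 → g * d * g⁻¹ = d⁻¹ → C d = W V ∧ cc d = a := by
    intro g d hd hd1 hgd
    have hda : cc d = a := by
      rcases h.tri.types d hd1 with e | e | e
      · exact e
      · exact absurd (eq_one_of_real (hVodd d hd)
          (h.tri.index_eq (e.trans h.hvt.symm) ▸ h.odd_index_v) hgd) hd1
      · exact absurd e (hnos d hd)
    exact ⟨hvecA d hd hd1 hda, hda⟩
  -- squares in `V`
  have hsq : ∀ u ∈ V, ∃ r ∈ V, r * r = u := by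
    intro u hu
    obtain ⟨j, hj⟩ := hVodd u hu
    refine ⟨u ^ (j + 1), V.pow_mem hu _, ?_⟩
    rw [← pow_add, show j + 1 + (j + 1) = orderOf u + 1 by omega, pow_succ, pow_orderOf_eq_one,
      one_mul]
  -- conjugation twice
  have htwice : ∀ g : G, g * g ∈ W V → ∀ u ∈ V, g * (g * u * g⁻¹) * g⁻¹ = u := by
    intro g hg u hu
    rw [show g * (g * u * g⁻¹) * g⁻¹ = (g * g) * u * (g * g)⁻¹ by group, (mem_W.1 hg u hu).eq]
    group
  -- the part inverted by `g`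
  have hdiff : ∀ g : G, g * g ∈ W V → ∀ u ∈ V,
      u * (g * u * g⁻¹)⁻¹ ∈ V ∧ g * (u * (g * u * g⁻¹)⁻¹) * g⁻¹ = (u * (g * u * g⁻¹)⁻¹)⁻¹ := by
    intro g hg u hu
    refine ⟨V.mul_mem hu (V.inv_mem (h.normal.conj_mem u hu g)), ?_⟩
    rw [show g * (u * (g * u * g⁻¹)⁻¹) * g⁻¹ = (g * u * g⁻¹) * (g * (g * u * g⁻¹) * g⁻¹)⁻¹ by
      group, htwice g hg u hu, mul_inv_rev, inv_inv]
  -- two involutions of `G/W` which commute are equal
  have hcomm_eq : ∀ g g' : G, g ∉ W V → g' ∉ W V → g * g ∈ W V → g' * g' ∈ W V →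
      (g' * g)⁻¹ * (g * g') ∈ W V → g⁻¹ * g' ∈ W V := by
    intro g g' hg hg' hg2 hg'2 hcom
    have hswap : ∀ u ∈ V, g * (g' * u * g'⁻¹) * g⁻¹ = g' * (g * u * g⁻¹) * g'⁻¹ := by
      intro u hu
      have hu' := (mem_W.1 hcom u hu).eq
      calc g * (g' * u * g'⁻¹) * g⁻¹
          = (g' * g) * (((g' * g)⁻¹ * (g * g')) * u) * (g * g')⁻¹ := by group
        _ = (g' * g) * (u * ((g' * g)⁻¹ * (g * g'))) * (g * g')⁻¹ := by rw [hu']
        _ = g' * (g * u * g⁻¹) * g'⁻¹ := by group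
    have hboth : ∀ g g' : G, g ∉ W V → g' ∉ W V → g' * g' ∈ W V →
        (∀ u ∈ V, g * (g' * u * g'⁻¹) * g⁻¹ = g' * (g * u * g⁻¹) * g'⁻¹) →
        ∀ d ∈ V, g * d * g⁻¹ = d⁻¹ → g' * d * g'⁻¹ = d⁻¹ := by
      intro g g' hg hg' hg'2 hsw d hd hgd
      have hd' : g' * d * g'⁻¹ ∈ V := h.normal.conj_mem d hd g'
      set e := d * (g' * d * g'⁻¹) with he
      have he1 : g * e * g⁻¹ = e⁻¹ := by
        rw [he, show g * (d * (g' * d * g'⁻¹)) * g⁻¹ = (g * d * g⁻¹) * (g * (g' * d * g'⁻¹) * g⁻¹)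
          by group, hsw d hd, hgd, show g' * d⁻¹ * g'⁻¹ = (g' * d * g'⁻¹)⁻¹ by group, ← mul_inv_rev,
          h.hVab _ hd' _ hd]
      have he2 : g' * e * g'⁻¹ = e := by
        rw [he, show g' * (d * (g' * d * g'⁻¹)) * g'⁻¹
          = (g' * d * g'⁻¹) * (g' * (g' * d * g'⁻¹) * g'⁻¹) by group, htwice g' hg'2 d hd]
        exact h.hVab _ hd' _ hd
      by_cases hee : e = 1
      · exact eq_inv_of_mul_eq_one_right hee
      · exact absurd ((hinvA g e (V.mul_mem hd hd') hee he1).1 ▸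
          mem_C.2 (mul_inv_eq_iff_eq_mul.1 he2)) hg'
    have h12 := hboth g g' hg hg' hg'2 hswap
    have h21 := hboth g' g hg' hg hg2 fun u hu => (hswap u hu).symm
    -- `g` and `g'` agree on squares
    refine mem_W.2 fun u hu => ?_
    obtain ⟨r, hr, rfl⟩ := hsq u hu
    have hrg : g * r * g⁻¹ ∈ V := h.normal.conj_mem r hr g
    set f := r * (g * r * g⁻¹) with hf
    obtain ⟨hdV, hdg⟩ := hdiff g hg2 r hr
    set d := r * (g * r * g⁻¹)⁻¹ with hd
    have hfV : f ∈ V := V.mul_mem hr hrg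
    have hfg : g * f * g⁻¹ = f := by
      rw [hf, show g * (r * (g * r * g⁻¹)) * g⁻¹ = (g * r * g⁻¹) * (g * (g * r * g⁻¹) * g⁻¹) by
        group, htwice g hg2 r hr]
      exact h.hVab _ hrg _ hr
    obtain ⟨heV, heg'⟩ := hdiff g' hg'2 f hfV
    set e := f * (g' * f * g'⁻¹)⁻¹ with he
    have heg : g * e * g⁻¹ = e := by
      rw [he, show g * (f * (g' * f * g'⁻¹)⁻¹) * g⁻¹ = (g * f * g⁻¹) * (g * (g' * f * g'⁻¹) * g⁻¹)⁻¹
        by group, hswap f hfV, hfg]
    have hg'f : g' * f * g'⁻¹ = f := by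
      have he1 : e = 1 := S3195.eq_one_of_sq e (hVodd e heV)
        (mul_eq_one_iff_eq_inv.2 (heg.symm.trans (h21 e heV heg')))
      rw [he, mul_inv_eq_one] at he1
      exact he1.symm
    have hg'd : g' * d * g'⁻¹ = d⁻¹ := h12 d hdV hdg
    have e1 : r * r = f * d := by
      rw [hf, hd, mul_assoc, ← mul_assoc (g * r * g⁻¹) r, h.hVab _ hrg _ hr, mul_assoc r,
        mul_inv_cancel, mul_one]
    show g⁻¹ * g' * (r * r) = r * r * (g⁻¹ * g')
    rw [← mul_inv_eq_iff_eq_mul, e1,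
      show g⁻¹ * g' * (f * d) * (g⁻¹ * g')⁻¹ = g⁻¹ * ((g' * f * g'⁻¹) * (g' * d * g'⁻¹)) * g by
        group, hg'f, hg'd]
    calc g⁻¹ * (f * d⁻¹) * g = g⁻¹ * ((g * f * g⁻¹) * (g * d * g⁻¹)) * g := by rw [hfg, hdg]
      _ = f * d := by group
  -- fixed vectors share a centraliser
  have hfix : ∀ g : G, g ∉ W V → g * g ∈ W V →
      ∃ u₁ ∈ V, cc u₁ = t ∧ ∀ x : G, g⁻¹ * (x * g * x⁻¹) ∈ W V →
        x ∈ Subgroup.normalizer (C u₁ : Set G) := by
    intro g₀ hg₀ hg₀2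
    obtain ⟨g, k, hgo, hgg⟩ := exists_two_elem hg₀2
    have hsame : ∀ u ∈ V, g₀ * u * g₀⁻¹ = g * u * g⁻¹ := fun u hu => by
      have := (mem_W.1 hgg u hu).eq
      calc g₀ * u * g₀⁻¹ = g₀ * (u * (g₀⁻¹ * g)) * (g₀⁻¹ * g)⁻¹ * g₀⁻¹ := by group
        _ = g₀ * ((g₀⁻¹ * g) * u) * (g₀⁻¹ * g)⁻¹ * g₀⁻¹ := by rw [this]
        _ = g * u * g⁻¹ := by group
    obtain ⟨l, hl⟩ := exists_conj_mem (p := 2) (u := g) (g := v) ⟨k, hgo⟩ h.odd_index_v
    set u₁ := l⁻¹ * v * l⁻¹⁻¹ with hu₁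
    have hu₁V : u₁ ∈ V := h.normal.conj_mem v h.hv l⁻¹
    have hu₁t : cc u₁ = t := (cc_conj l⁻¹ v).trans h.hvt
    have hgu₁ : g ∈ C u₁ := by
      have := conj_mem_C_conj l⁻¹ hl
      simpa [hu₁, mul_assoc] using this
    have hg1 : g ∉ W V := fun hgW => hg₀ (by
      have := (W V).mul_mem hgW ((W V).inv_mem hgg)
      rwa [mul_inv_rev, inv_inv, ← mul_assoc, mul_inv_cancel, one_mul] at this)
    obtain ⟨u, hu, hne⟩ : ∃ u ∈ V, ¬ Commute g₀ u := by
      by_contra hall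
      push Not at hall
      exact hg₀ (mem_W.2 hall)
    obtain ⟨hdV, hd⟩ := hdiff g₀ hg₀2 u hu
    have haW : Nat.card (W V) = a := by
      obtain ⟨e1, e2⟩ := hinvA g₀ _ hdV (fun e => hne (by
        rw [mul_inv_eq_one] at e
        exact mul_inv_eq_iff_eq_mul.1 e.symm)) hd
      rw [← e2, cc, e1]
    refine ⟨u₁, hu₁V, hu₁t, fun x hx => ?_⟩
    set u₂ := x * u₁ * x⁻¹ with hu₂
    have hu₂V : u₂ ∈ V := h.normal.conj_mem u₁ hu₁V x
    have hu₂t : cc u₂ = t := (cc_conj x u₁).trans hu₁t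
    have hgu₂ : g ∈ C u₂ := by
      refine mem_C.2 (mul_inv_eq_iff_eq_mul.1 ?_)
      rw [← hsame u₂ hu₂V]
      have h1 := mem_W.1 hx u₂ hu₂V
      have h2 : g₀ * u₁ * g₀⁻¹ = u₁ := by
        rw [hsame u₁ hu₁V, (mem_C.1 hgu₁).eq]; group
      have h3 : g₀⁻¹ * (x * g₀ * x⁻¹) * u₂ * (g₀⁻¹ * (x * g₀ * x⁻¹))⁻¹ = u₂ := by
        rw [h1.eq]; group
      calc g₀ * u₂ * g₀⁻¹
          = g₀ * (g₀⁻¹ * (x * g₀ * x⁻¹) * u₂ * (g₀⁻¹ * (x * g₀ * x⁻¹))⁻¹) * g₀⁻¹ := by rw [h3]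
        _ = x * (g₀ * u₁ * g₀⁻¹) * x⁻¹ := by rw [hu₂]; group
        _ = u₂ := by rw [h2]
    -- a conjugate of `w` attached to `u₁`
    set w₁ := l⁻¹ * w * l⁻¹⁻¹ with hw₁
    have hw₁C : C w₁ = C u₁ := by rw [C_conj, hCw, ← C_conj]
    have hw₁W : w₁ ∈ W V := h.W_normal.conj_mem w hwW l⁻¹
    have hw₁p : (orderOf w₁).Coprime p := by
      rw [hw₁, ← MulAut.conj_apply, MulEquiv.orderOf_eq]; exact hwp
    have hw₁1 : w₁ ≠ 1 := fun e => hw1 (conj_eq_one_iff.1 e)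
    have hco := h.coprime_vec hu₂V hw₁p
    have hc : Commute w₁ u₂ := mem_W.1 hw₁W u₂ hu₂V
    have hle1 : C (w₁ * u₂) ≤ C w₁ := C_mul_le hc hco
    have hle2 : C (w₁ * u₂) ≤ C u₂ := by rw [hc.eq]; exact C_mul_le hc.symm hco.symm
    have hge : C u₁ ⊓ C u₂ ≤ C (w₁ * u₂) := fun y hy => by
      rw [← hw₁C] at hy
      exact mem_C.2 ((mem_C.1 hy.1).mul_right (mem_C.1 hy.2))
    have h1' := mul_ne_one_of_coprime hw₁1 hco
    have heq : C u₂ = C u₁ := by
      rcases h.tri.dvd_t h1' (hu₂t ▸ Subgroup.card_dvd_of_le hle2) with e | e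
      · exfalso
        have hWle : W V ≤ C (w₁ * u₂) := fun y hy =>
          hge ⟨mem_C.2 (mem_W.1 hy u₁ hu₁V), mem_C.2 (mem_W.1 hy u₂ hu₂V)⟩
        have : C (w₁ * u₂) = W V :=
          (Subgroup.eq_of_le_of_card_ge hWle (by rw [← cc, e, haW])).symm
        exact hg1 (this ▸ hge ⟨hgu₁, hgu₂⟩)
      · rw [← eq_C_of_le hle2 (by rw [e, hu₂t]), eq_C_of_le hle1 (by
          rw [e, cc, hw₁C]; exact le_of_eq hu₁t), hw₁C]
    refine Subgroup.mem_normalizer_fintype fun y hy => ?_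
    have hy' := conj_mem_C_conj x hy
    show x * y * x⁻¹ ∈ C u₁
    rw [← heq]
    exact hy'
  -- the quotient by `W`
  set Q := G ⧸ W V with hQ
  obtain ⟨N, hN, hNs, -⟩ := exists_minimal_nonsolvable h.tri.hns
  have hQs : ¬ Group.IsSolvable Q := fun hs => h.tri.hns (by
    haveI := hs
    haveI := h.W_solvable
    exact solvable_of_ker_le_range (W V).subtype (QuotientGroup.mk' (W V)) (by simp))
  have h2Q : 2 ∣ Nat.card Q := by
    by_contra hodd
    exact hQs (S0205.result (by rwa [← Nat.not_even_iff_odd, even_iff_two_dvd]))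
  obtain ⟨i, hi⟩ := exists_prime_orderOf_dvd_card' (G := Q) 2 h2Q
  have hQeq : ∀ i j : Q, orderOf i = 2 → orderOf j = 2 → i * j = j * i → i = j := by
    intro i j hi hj hij
    induction i using QuotientGroup.induction_on with | _ g => ?_
    induction j using QuotientGroup.induction_on with | _ g' => ?_
    have hg : g ∉ W V := fun e => by
      rw [(QuotientGroup.eq_one_iff g).2 e, orderOf_one] at hi; omega
    have hg' : g' ∉ W V := fun e => by
      rw [(QuotientGroup.eq_one_iff g').2 e, orderOf_one] at hj; omega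
    have hg2 : g * g ∈ W V := by
      rw [← QuotientGroup.eq_one_iff, QuotientGroup.mk_mul, ← pow_two, ← hi, pow_orderOf_eq_one]
    have hg'2 : g' * g' ∈ W V := by
      rw [← QuotientGroup.eq_one_iff, QuotientGroup.mk_mul, ← pow_two, ← hj, pow_orderOf_eq_one]
    rw [← QuotientGroup.mk_mul, ← QuotientGroup.mk_mul, eq_comm, QuotientGroup.eq] at hij
    exact QuotientGroup.eq.2 (hcomm_eq g g' hg hg' hg2 hg'2 hij)
  obtain ⟨S, hS⟩ := (IsPGroup.of_card (G := Subgroup.zpowers i) (p := 2) (n := 1)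
    (by rw [Nat.card_zpowers, hi, pow_one])).exists_le_sylow
  have hiS : i ∈ (S : Subgroup Q) := hS (Subgroup.mem_zpowers i)
  obtain ⟨z₀, hz₀1, hz₀S, hz₀, -, -⟩ := exists_central S h2Q
  obtain ⟨k, q', hq', hk, hkd⟩ := exists_pow_prime hz₀1
  have hz2 : orderOf (z₀ ^ k) = 2 := by
    obtain ⟨n, hn⟩ := IsPGroup.iff_orderOf.1 S.2 ⟨z₀, hz₀S⟩
    rw [Subgroup.orderOf_mk] at hn
    rw [hk]
    exact (Nat.prime_dvd_prime_iff_eq hq' Nat.prime_two).1 (hq'.dvd_of_dvd_pow (hn ▸ hkd))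
  have hall : ∀ j ∈ (S : Subgroup Q), orderOf j = 2 → j = i := by
    intro j hj hjo
    have h1 : ∀ x ∈ (S : Subgroup Q), Commute x (z₀ ^ k) := fun x hx =>
      (mem_C.1 (hz₀ hx)).pow_right k
    rw [hQeq j _ hjo hz2 (h1 j hj).eq, hQeq i _ hi hz2 (h1 i hiS).eq]
  obtain ⟨M, hM, hModd, hcommM⟩ := S0215.result S i hi hiS fun g hg =>
    hall _ hg (by rw [← MulAut.conj_apply, MulEquiv.orderOf_eq, hi])
  haveI := hM
  have hi2 : i * i = 1 := by rw [← pow_two, ← hi, pow_orderOf_eq_one]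
  refine hQs (isSolvable_of_odd_mod (S0205.result hModd) hModd hi2 (fun g => ?_) ?_)
  · rw [show g * i * g⁻¹ * i⁻¹ = (i * g * i⁻¹ * g⁻¹)⁻¹ by group]
    exact M.inv_mem (hcommM g)
  -- the centraliser of `i`
  clear hall hz2 hk hz₀ hz₀S hz₀1 hS hiS
  induction i using QuotientGroup.induction_on with | _ g₀ => ?_
  have hg₀ : g₀ ∉ W V := fun e => by
    rw [(QuotientGroup.eq_one_iff g₀).2 e, orderOf_one] at hi; omega
  have hg₀2 : g₀ * g₀ ∈ W V := by
    rw [← QuotientGroup.eq_one_iff, QuotientGroup.mk_mul]; exact hi2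
  obtain ⟨u₁, -, hu₁t, hnorm⟩ := hfix g₀ hg₀ hg₀2
  have hle : (C (g₀ : Q)) ≤ (Subgroup.normalizer (C u₁ : Set G)).map (QuotientGroup.mk' (W V)) := by
    intro x hx
    induction x using QuotientGroup.induction_on with | _ x => ?_
    refine ⟨x, hnorm x (QuotientGroup.eq.1 ?_), rfl⟩
    rw [QuotientGroup.mk_mul, QuotientGroup.mk_mul, QuotientGroup.mk_inv, (mem_C.1 hx).eq,
      mul_inv_cancel_right]
  refine isSolvable_of_le hle ?_
  haveI := h.isSolvable_normalizer_C hu₁t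
  exact solvable_of_surjective
    ((QuotientGroup.mk' (W V)).subgroupMap_surjective (Subgroup.normalizer (C u₁ : Set G)))

end Rad

end Cfsg.Agent.H63.RankThree
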