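import Cfsg.Agent.H63.RankThreeGen.Vectors
import Cfsg.Agent.H54.ConstrainedKey

/-!
# Elements of type `s` act fixed point freely on `V`
-/

set_option autoImplicit false

namespace Cfsg.Agent.H63.RankThree

universe u

variable {G : Type u} [Group G] [Finite G]

/-- An element of prime order in a subgroup, at a prime dividing the order. -/
theorem exists_prime_mem {q : ℕ} (hq : q.Prime) {H : Subgroup G} (hd : q ∣ Nat.card H) :
    ∃ u : G, u ∈ H ∧ orderOf u = q ∧ u ≠ 1 := by
  haveI := Fact.mk hq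
  obtain ⟨u, hu⟩ := exists_prime_orderOf_dvd_card' (G := H) q hd
  rw [← Subgroup.orderOf_coe] at hu
  exact ⟨u, u.2, hu, fun e => hq.one_lt.ne' (by rw [← hu, e, orderOf_one])⟩

theorem inverse_of_no_fixed {V : Subgroup G} (hab : ∀ x ∈ V, ∀ y ∈ V, x * y = y * x)
    (hn : V.Normal) {g u : G} (hu : u ∈ V) (hg2 : Commute (g * g) u)
    (hfree : ∀ w ∈ V, Commute g w → w = 1) : g * u * g⁻¹ = u⁻¹ := by
  have hgu : g * u * g⁻¹ ∈ V := hn.conj_mem u hu g
  have e2 : g * (g * u * g⁻¹) * g⁻¹ = u := by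
    rw [show g * (g * u * g⁻¹) * g⁻¹ = (g * g) * u * (g * g)⁻¹ by group, hg2.eq]; group
  have hfix : Commute g (u * (g * u * g⁻¹)) := mul_inv_eq_iff_eq_mul.1 <| by
    rw [show g * (u * (g * u * g⁻¹)) * g⁻¹ = (g * u * g⁻¹) * (g * (g * u * g⁻¹) * g⁻¹) by group,
      e2, hab _ hgu _ hu]
  exact (inv_eq_of_mul_eq_one_right (hfree _ (V.mul_mem hu hgu) hfix)).symm

namespace Rad

variable {a t s p : ℕ} {V : Subgroup G} {v : G} (h : Rad G a t s p V v)
include h

/-- No `p'`-element of type `s` commutes with a non-identity vector. -/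
theorem fpf_s {z u : G} (hz : cc z = s) (hzp : (orderOf z).Coprime p) (hu : u ∈ V) (hu1 : u ≠ 1)
    (hzu : Commute z u) : False := by
  have hz1 : z ≠ 1 := h.tri.symm.ne_one_t hz
  have hzW : z ∉ W V := fun hzW => h.tri.not_commute_coprime h.hvt hz
    (h.coprime_vec h.hv hzp).symm (mem_W.1 hzW v h.hv).symm
  have hco := h.coprime_vec hu hzp
  have hVC : ∀ w : G, C u ≤ C w → w ∈ W V := fun w hw => mem_W.2 fun x hx =>
    (mem_C.1 (hw (h.V_le_C hu hx))).symm
  have huz : C (z * u) ≤ C z := C_mul_le hzu hco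
  have huu : C (z * u) ≤ C u := by rw [hzu.eq]; exact C_mul_le hzu.symm hco.symm
  have h1 : z * u ≠ 1 := mul_ne_one_of_coprime hz1 hco
  -- the vector has type `s`
  have hus : cc u = s := by
    rcases h.tri.types u hu1 with e | e | e
    · exact absurd (hVC z (h.tri.le_of_a hu1 hzu.symm hco.symm e)) hzW
    · exact (h.tri.not_commute_coprime e hz hco.symm hzu.symm).elim
    · exact e
  have hzua : cc (z * u) = a := by
    rcases h.tri.dvd_s h1 (hz ▸ Subgroup.card_dvd_of_le huz) with e | e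
    · exact e
    · exfalso
      refine hzW (hVC z ?_)
      rw [← eq_C_of_le huu (by rw [e, hus])]
      exact huz
  set w := v * u with hw
  have hwV : w ∈ V := V.mul_mem h.hv hu
  have hvu : Commute v u := h.hVab v h.hv u hu
  have hw1 : w ≠ 1 := fun e => by
    have : u = v⁻¹ := eq_inv_of_mul_eq_one_right e
    rw [this, cc, C_inv, ← cc, h.hvt] at hus
    exact h.tri.hts (hus ▸ dvd_rfl)
  have hwa : cc w = a := by
    rcases h.tri.types w hw1 with e | e | e
    · exact e
    · exact (h.prod_ne_t h.hv hu h.hvt hus e).elim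
    · exact (h.prod_ne_s h.hv hu h.hvt hus e).elim
  have hDw : C v ⊓ C u ≤ C w := fun x hx =>
    mem_C.2 ((mem_C.1 hx.1).mul_right (mem_C.1 hx.2))
  obtain ⟨q, hq, hqz⟩ := Nat.exists_prime_and_dvd (mt orderOf_eq_one_iff.1 hz1)
  have hqp : q.Coprime p := hzp.coprime_dvd_left hqz
  -- no element of order `q` in `C v ⊓ C u`
  have hD : ∀ e ∈ C v ⊓ C u, orderOf e = q → False := by
    intro e he heq
    have hep : (orderOf e).Coprime p := heq ▸ hqp
    have he1 : e ≠ 1 := fun e' => hq.one_lt.ne' (by rw [← heq, e', orderOf_one])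
    have hcv := h.coprime_vec h.hv hep
    have hcu := h.coprime_vec hu hep
    rcases h.tri.types e he1 with ec | ec | ec
    · have hle : C e ≤ C v ⊓ C u := le_inf (h.tri.le_of_a he1 (mem_C.1 he.1) hcv ec)
        (h.tri.le_of_a he1 (mem_C.1 he.2) hcu ec)
      have heq' : C e = C v ⊓ C u := Subgroup.eq_of_le_of_card_ge hle (by
        calc Nat.card ↥(C v ⊓ C u) ≤ cc w := Subgroup.card_le_of_le hDw
          _ = Nat.card (C e) := hwa.trans ec.symm)
      refine h.tri.index_a_ne h.hvt hus he1 ec ?_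
      rw [heq']
      exact (H19.index_inf_of_coprime (h.tri.cop v u h.hvt hus)).1
    · exact h.tri.not_commute_coprime ec hus hcu (mem_C.1 he.2)
    · exact h.tri.not_commute_coprime h.hvt ec hcv.symm (mem_C.1 he.1).symm
  -- an element of order `q` centralising `w`
  obtain ⟨e, he, heq, he1⟩ := exists_prime_mem hq (H := C w) (by
    rw [← cc, hwa, ← hzua]
    exact hqz.trans (orderOf_dvd_cc (mem_C.2 ((Commute.refl z).mul_right hzu))))
  have hle := h.tri.le_of_a hw1 (mem_C.1 he).symm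
    (h.coprime_vec hwV (heq ▸ hqp : (orderOf e).Coprime p)).symm hwa
  have heW : e ∈ W V := mem_W.2 fun x hx => (mem_C.1 (hle (h.V_le_C hwV hx))).symm
  exact hD e ⟨h.W_le heW, mem_C.2 (mem_W.1 heW u hu)⟩ heq

end Rad

end Cfsg.Agent.H63.RankThree
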