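import Cfsg.Agent.H63.RankThreeGen.Endgame

/-!
# No non-trivial solvable normal subgroup
-/

set_option autoImplicit false

namespace Cfsg.Agent.H63.RankThree

universe u

open scoped commutatorElement

variable {G : Type u} [Group G] [Finite G]

/-- A minimal normal subgroup inside a normal `p`-group: abelian, with a vector centralising a
Sylow subgroup. -/
theorem exists_vector {p : ℕ} [Fact p.Prime] {M : Subgroup G} [M.Normal] (hM : IsPGroup p M)
    (hne : M ≠ ⊥) :
    ∃ (V : Subgroup G) (v : G), V.Normal ∧ IsPGroup p V ∧ (∀ x ∈ V, ∀ y ∈ V, x * y = y * x) ∧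
      (∀ X : Subgroup G, X.Normal → X ≤ V → X ≠ ⊥ → X = V) ∧ v ∈ V ∧ v ≠ 1 ∧
      ¬ p ∣ (C v).index := by
  obtain ⟨V, ⟨hV, hVM, hVne⟩, hmin⟩ := (Set.toFinite {X : Subgroup G | X.Normal ∧ X ≤ M ∧ X ≠ ⊥}).exists_minimal
    ⟨M, inferInstance, le_rfl, hne⟩
  have hVp : IsPGroup p V := hM.to_le hVM
  have hmin' : ∀ X : Subgroup G, X.Normal → X ≤ V → X ≠ ⊥ → X = V := fun X hX hle hne' =>
    le_antisymm hle (hmin ⟨hX, hle.trans hVM, hne'⟩ hle)
  haveI := hV
  haveI : Nontrivial V := (Subgroup.nontrivial_iff_ne_bot V).2 hVne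
  haveI := IsPGroup.center_nontrivial (p := p) (G := V) hVp
  have hab : ∀ x ∈ V, ∀ y ∈ V, x * y = y * x := by
    have hZ : V ⊓ Subgroup.centralizer (V : Set G) ≠ ⊥ := by
      obtain ⟨⟨c, hc⟩, hc1⟩ := exists_ne (1 : Subgroup.center V)
      intro e
      refine hc1 (Subtype.ext (Subtype.ext ?_))
      refine (Subgroup.mem_bot.1 (e ▸ ⟨c.2, Subgroup.mem_centralizer_iff.2 fun y hy => ?_⟩))
      exact congrArg Subtype.val (Subgroup.mem_center_iff.1 hc ⟨y, hy⟩)
    have heq := hmin' _ inferInstance inf_le_left hZ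
    intro x hx y hy
    exact (Subgroup.mem_centralizer_iff.1 (heq.ge hx).2 y hy).symm
  have hp : p ∣ Nat.card V := by
    obtain ⟨n, hn⟩ := IsPGroup.iff_card.1 hVp
    rw [hn]
    refine dvd_pow_self p fun h0 => hVne (Subgroup.card_eq_one.1 ?_)
    rw [hn, h0, pow_zero]
  obtain ⟨T, v, hvo, hvV, -, hT⟩ := exists_central_normal V hp
  exact ⟨V, v, hV, hVp, hab, hmin', hvV,
    fun e => (Fact.out : p.Prime).one_lt.ne' (by rw [← hvo, e, orderOf_one]),
    index_not_dvd_of_sylow_le T hT⟩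

namespace Tri

variable {a t s : ℕ} (h : Tri G a t s)
include h

theorem exists_rad {p : ℕ} [Fact p.Prime] {M : Subgroup G} [M.Normal] (hM : IsPGroup p M)
    (hne : M ≠ ⊥) : ∃ (t' s' : ℕ) (V : Subgroup G) (v : G), Rad G a t' s' p V v := by
  obtain ⟨V, v, hV, hVp, hab, hmin, hvV, hv1, hidx⟩ := exists_vector hM hne
  rcases h.types v hv1 with e | e | e
  · exact (h.not_a Fact.out hV hVp hvV hv1 hidx e).elim
  · exact ⟨t, s, V, v, h, Fact.out, hV, hVp, hab, hmin, hvV, hv1, e, hidx⟩
  · exact ⟨s, t, V, v, h.symm, Fact.out, hV, hVp, hab, hmin, hvV, hv1, e, hidx⟩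

/-- There is no nontrivial normal `p`-subgroup, `p` odd. -/
theorem eq_bot_of_odd {p : ℕ} [Fact p.Prime] (hp2 : p ≠ 2) {M : Subgroup G} [M.Normal]
    (hM : IsPGroup p M) : M = ⊥ := by
  by_contra hne
  obtain ⟨t', s', V, v, R⟩ := h.exists_rad hM hne
  exact R.false_of_odd hp2

/-- There is no nontrivial normal `2`-subgroup. -/
theorem eq_bot_two {M : Subgroup G} [M.Normal] (hM : IsPGroup 2 M) : M = ⊥ := by
  haveI := Fact.mk Nat.prime_two
  by_contra hne
  -- the largest normal `2`-subgroup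
  obtain ⟨O, ⟨hO, hOp⟩, hOmax⟩ := (Set.toFinite {X : Subgroup G | X.Normal ∧ IsPGroup 2 X}).exists_maximal
    ⟨M, inferInstance, hM⟩
  haveI := hO
  have hbig : ∀ X : Subgroup G, X.Normal → IsPGroup 2 X → X ≤ O := fun X hX hXp => by
    haveI := hX
    exact le_sup_right.trans (hOmax ⟨inferInstance, hOp.to_sup_of_normal_right hXp⟩ le_sup_left)
  have hOne : O ≠ ⊥ := fun e => hne (le_bot_iff.1 (e ▸ hbig M inferInstance hM))
  obtain ⟨t', s', V, v, R⟩ := h.exists_rad hOp hOne
  obtain ⟨q, w, hq, hq2, hwo, hwW, hCw⟩ := R.exists_w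
  have hw2 : ¬ 2 ∣ (C w).index := by rw [hCw]; exact R.hidx
  set U := Subgroup.centralizer (O : Set G) with hU
  have hwU : w ∈ U := Subgroup.mem_centralizer_iff.2 fun x hx =>
    (mem_C.1 (normal_pgroup_le hOp hw2 hx)).eq
  have hUs : Group.IsSolvable U := isSolvable_of_le (fun g hg =>
    mem_C.2 ((Subgroup.mem_centralizer_iff.1 hg v (hbig V R.normal R.hVp R.hv)).symm))
    (h.solvable_C R.hv1)
  have hU2 : ¬ IsPGroup 2 U := fun hp => by
    obtain ⟨k, hk⟩ := IsPGroup.iff_orderOf.1 hp ⟨w, hwU⟩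
    rw [Subgroup.orderOf_mk, hwo] at hk
    exact hq2 ((Nat.prime_dvd_prime_iff_eq hq Nat.prime_two).1 (hq.dvd_of_dvd_pow (dvd_of_eq hk)))
  obtain ⟨X, ⟨hX, hXU, hX2⟩, hXmin⟩ :=
    (Set.toFinite {X : Subgroup G | X.Normal ∧ X ≤ U ∧ ¬ IsPGroup 2 X}).exists_minimal
      ⟨U, inferInstance, le_rfl, hU2⟩
  haveI := hX
  haveI : Group.IsSolvable X := isSolvable_of_le hXU hUs
  haveI : Nontrivial X := (Subgroup.nontrivial_iff_ne_bot X).2 fun e => hX2 (e ▸ IsPGroup.of_bot)
  haveI : ((commutator X).map X.subtype).Normal := inferInstance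
  set D := (commutator X).map X.subtype with hD
  have hDlt : ¬ X ≤ D := by
    intro hle
    refine (Group.IsSolvable.commutator_lt_top_of_nontrivial X).ne (eq_top_iff.2 fun x _ => ?_)
    obtain ⟨y, hy, hyx⟩ := hle x.2
    exact Subtype.val_injective hyx ▸ hy
  have hD2 : IsPGroup 2 D := by
    by_contra hn
    exact hDlt (hXmin ⟨inferInstance, (Subgroup.map_subtype_le _).trans hXU, hn⟩
      (Subgroup.map_subtype_le _))
  have hDO : D ≤ O := hbig D inferInstance hD2
  haveI : Group.IsNilpotent X := by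
    refine Subgroup.isNilpotent_of_ker_le_center (Abelianization.of (G := X)) ?_
    rw [Abelianization.ker_of]
    intro c hc
    rw [Subgroup.mem_center_iff]
    intro x
    exact Subtype.ext (Subgroup.mem_centralizer_iff.1 (hXU x.2) c (hDO ⟨c, hc, rfl⟩)).symm
  obtain ⟨r, hr, hr2, hrX⟩ : ∃ r : ℕ, r.Prime ∧ r ≠ 2 ∧ r ∣ Nat.card X := by
    by_contra hcon
    push Not at hcon
    exact hX2 (IsPGroup.of_card (n := (Nat.card X).primeFactorsList.length)
      (Nat.eq_prime_pow_of_unique_prime_dvd (Nat.card_pos.ne') fun {d} hd hdd => by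
        by_contra hd2; exact hcon d hd hd2 hdd))
  haveI := Fact.mk hr
  set T : Sylow r X := default
  haveI : (T : Subgroup X).Normal := inferInstance
  haveI : (T : Subgroup X).Characteristic := T.characteristic_of_normal inferInstance
  haveI : ((T : Subgroup X).map X.subtype).Normal := inferInstance
  have := h.eq_bot_of_odd hr2 (M := (T : Subgroup X).map X.subtype) (T.2.map _)
  exact T.ne_bot_of_dvd_card hrX
    ((Subgroup.map_eq_bot_iff_of_injective _ Subtype.val_injective).1 this)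

/-- The solvable radical is trivial. -/
theorem eq_bot_of_solvable {M : Subgroup G} [M.Normal] (hM : Group.IsSolvable M) : M = ⊥ := by
  by_contra hne
  obtain ⟨V, ⟨hV, hVM, hVne⟩, hmin⟩ := (Set.toFinite {X : Subgroup G | X.Normal ∧ X ≤ M ∧ X ≠ ⊥}).exists_minimal
    ⟨M, inferInstance, le_rfl, hne⟩
  haveI := hV
  haveI : Group.IsSolvable V := isSolvable_of_le hVM hM
  haveI : Nontrivial V := (Subgroup.nontrivial_iff_ne_bot V).2 hVne
  have hcomm : IsMulCommutative V := by
    have hlt := Group.IsSolvable.commutator_lt_top_of_nontrivial V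
    have hbot : commutator V = ⊥ := by
      by_contra hb
      have hle := hmin (show (commutator V).map V.subtype ∈
        {X : Subgroup G | X.Normal ∧ X ≤ M ∧ X ≠ ⊥} from
          ⟨inferInstance, (Subgroup.map_subtype_le _).trans hVM, fun e =>
            hb ((Subgroup.map_eq_bot_iff_of_injective _ Subtype.val_injective).1 e)⟩)
        (Subgroup.map_subtype_le _)
      refine hlt.ne (eq_top_iff.2 fun x _ => ?_)
      obtain ⟨y, hy, hyx⟩ := hle x.2
      exact Subtype.val_injective hyx ▸ hy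
    refine ⟨⟨fun x y => ?_⟩⟩
    have hc : ⁅x, y⁆ ∈ commutator V := Subgroup.commutator_mem_commutator (Subgroup.mem_top _) (Subgroup.mem_top _)
    rw [hbot, Subgroup.mem_bot, commutatorElement_eq_one_iff_mul_comm] at hc
    exact hc
  obtain ⟨p, hp, hpV⟩ := Nat.exists_prime_and_dvd (mt Subgroup.card_eq_one.1 hVne)
  haveI := Fact.mk hp
  set T : Sylow p V := default
  haveI : (T : Subgroup V).Normal := ⟨fun x hx g => by
    rwa [hcomm.is_comm.comm g x, mul_inv_cancel_right]⟩
  haveI : (T : Subgroup V).Characteristic := T.characteristic_of_normal inferInstance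
  haveI : ((T : Subgroup V).map V.subtype).Normal := inferInstance
  have hbot : (T : Subgroup V).map V.subtype = ⊥ := by
    by_cases hp2 : p = 2
    · subst hp2; exact h.eq_bot_two (T.2.map _)
    · exact h.eq_bot_of_odd hp2 (T.2.map _)
  exact T.ne_bot_of_dvd_card hpV
    ((Subgroup.map_eq_bot_iff_of_injective _ Subtype.val_injective).1 hbot)

end Tri

end Cfsg.Agent.H63.RankThree
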