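import Cfsg.Agent.H63.RankThree.EvenB
import Cfsg.Agent.H63.RankThree.EvenC
import Cfsg.Agent.H63.RankThree.FCase
import Cfsg.Agent.H63.RankThreeGen.Radical
import Cfsg.Agent.H63.RankThreeGen.CA

/-!
# Non-solvable groups with trivial centre and at most three non-trivial class sizes are CA-groups
-/

set_option autoImplicit false

namespace Cfsg.Agent.H63.RankThree

universe u

variable {G : Type u} [Group G] [Finite G]

theorem isCA_of_three (hZ : Subgroup.center G = ⊥) (hns : ¬ Group.IsSolvable G)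
    (h3 : Nat.card {n : ℕ | 1 < n ∧ ∃ x : G, (C x).index = n} ≤ 3) : IsCA G := by
  by_cases hF : ∀ x y : G, x ≠ 1 → y ≠ 1 → C x ≤ C y → C x = C y
  · exact fun u hu g hg g' hg' => abelian_of_F hF hu g hg g' hg'
  exfalso
  push Not at hF
  obtain ⟨x, y₀, hx, hy₀, hle₀, hne₀⟩ := hF
  obtain ⟨k, p, hp, hy, -⟩ := exists_pow_prime hy₀
  set y := y₀ ^ k
  have hy1 : y ≠ 1 := fun e => hp.one_lt.ne' (by rw [← hy, e, orderOf_one])
  have hlt : C x < C y := (lt_of_le_of_ne hle₀ hne₀).trans_le (C_le_pow y₀ k)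
  have hidx : ∀ g : G, g ≠ 1 → 1 < (C g).index := fun g hg => by
    refine Nat.one_lt_iff_ne_zero_and_ne_one.2 ⟨Subgroup.index_ne_zero_of_finite, fun e => hg ?_⟩
    have : g ∈ Subgroup.center G := Subgroup.mem_center_iff.2 fun w =>
      (mem_C.1 ((Subgroup.index_eq_one.1 e).symm ▸ Subgroup.mem_top w : w ∈ C g)).eq
    rwa [hZ, Subgroup.mem_bot] at this
  have hccI : ∀ g g' : G, (C g).index = (C g').index → cc g = cc g' := fun g g' e =>
    Nat.eq_of_mul_eq_mul_right (Nat.pos_of_ne_zero Subgroup.index_ne_zero_of_finite)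
      (by rw [index_mul_cc, e, index_mul_cc])
  set N : Set ℕ := {n : ℕ | 1 < n ∧ ∃ x : G, (C x).index = n} with hN
  have hNfin : N.Finite := (Set.finite_range fun g : G => (C g).index).subset
    (by rintro n ⟨-, g, rfl⟩; exact ⟨g, rfl⟩)
  rw [Nat.card_coe_set_eq] at h3
  have hxy : (C x).index ≠ (C y).index := fun e => hlt.ne (eq_C_of_le hlt.le (hccI x y e).ge)
  obtain ⟨w, hw, hwx, hwy⟩ : ∃ w : G, w ≠ 1 ∧ cc w ≠ cc x ∧ cc w ≠ cc y := by
    by_contra hcon
    push Not at hcon
    obtain ⟨q, hq, hqd⟩ := Nat.exists_prime_and_dvd (hidx y hy1).ne'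
    haveI := Fact.mk hq
    obtain ⟨z, hz1, -, -, hzi, -⟩ := exists_central (default : Sylow q G)
      (hqd.trans (C y).index_dvd_card)
    have heq : ∀ g g' : G, cc g = cc g' → (C g).index = (C g').index := fun g g' e =>
      Nat.eq_of_mul_eq_mul_left (cc_pos g) (by rw [index_mul_cc, e, index_mul_cc])
    by_cases h : cc z = cc x
    · exact hzi (heq z x h ▸ hqd.trans (Subgroup.index_dvd_of_le hlt.le))
    · exact hzi (heq z y (hcon z hz1 h) ▸ hqd)
  have hsub : ({(C x).index, (C y).index, (C w).index} : Set ℕ) ⊆ N := by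
    rintro n (rfl | rfl | rfl)
    exacts [⟨hidx x hx, x, rfl⟩, ⟨hidx y hy1, y, rfl⟩, ⟨hidx w hw, w, rfl⟩]
  have hcard : ({(C x).index, (C y).index, (C w).index} : Set ℕ).ncard = 3 :=
    Set.ncard_eq_three.2 ⟨_, _, _, hxy, fun e => hwx (hccI w x e.symm),
      fun e => hwy (hccI w y e.symm), rfl⟩
  have hSeq := Set.eq_of_subset_of_ncard_le hsub (hcard.symm ▸ h3) hNfin
  have hw' : Wit G x y (cc x) (cc y) (cc w) :=
    { hZ := hZ
      hns := hns
      hx := hx
      hy := hy1
      yprime := hy ▸ hp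
      hlt := hlt
      ha := rfl
      hb := rfl
      hc := ⟨w, hw, rfl⟩
      types := fun g hg => by
        have hm : (C g).index ∈ N := ⟨hidx g hg, g, rfl⟩
        rw [← hSeq] at hm
        rcases hm with e | e | e
        exacts [Or.inl (hccI _ _ e), Or.inr (Or.inl (hccI _ _ e)), Or.inr (Or.inr (hccI _ _ e))]
      hca := hwx
      hcb := hwy }
  have hctx : Ctx G x y (cc x) (cc y) (cc w) :=
    { hw' with rfree := fun K hK hKs => haveI := hK; hw'.tri.eq_bot_of_solvable hKs }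
  have h2 : 2 ∣ Nat.card G := by
    by_contra hodd
    exact hns (S0205.result (G := G) (by rwa [← Nat.not_even_iff_odd, even_iff_two_dvd]))
  rw [hctx.card_eq] at h2
  rcases Nat.prime_two.dvd_mul.1 h2 with h2 | h2
  · exact hctx.false_of_two_dvd_b h2
  · exact hctx.false_of_two_dvd_c h2

end Cfsg.Agent.H63.RankThree
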