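import Cfsg.Agent.H63.RankThreeGen.Odd

/-!
# The first reduction: the central vector is not of type `a`
-/

set_option autoImplicit false

namespace Cfsg.Agent.H63.RankThree

universe u

variable {G : Type u} [Group G] [Finite G]

/-- A central vector of a Sylow `p`-subgroup is not of type `a`. -/
theorem Tri.not_a {a t s p : ℕ} (h : Tri G a t s) (hp : p.Prime) {V : Subgroup G}
    (hn : V.Normal) (hVp : IsPGroup p V) {v : G} (hv : v ∈ V) (hv1 : v ≠ 1)
    (hidx : ¬ p ∣ (C v).index) (hva : cc v = a) : False := by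
  haveI := Fact.mk hp
  haveI := hn
  obtain ⟨N, hN, hNs, hmin⟩ := exists_minimal_nonsolvable h.hns
  haveI := hN
  suffices key : ∀ {t s : ℕ}, Tri G a t s → ∀ z : G, cc z = s → p ∣ (C z).index → False by
    by_cases hs : ∃ z : G, cc z = s ∧ p ∣ (C z).index
    · obtain ⟨z, hz, hd⟩ := hs; exact key h z hz hd
    by_cases ht : ∃ z : G, cc z = t ∧ p ∣ (C z).index
    · obtain ⟨z, hz, hd⟩ := ht; exact key h.symm z hz hd
    push Not at hs ht
    refine hv1 ?_
    rw [← Subgroup.mem_bot, ← h.hZ, Subgroup.mem_center_iff]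
    intro g
    rcases eq_or_ne g 1 with rfl | hg
    · simp
    have hg' : ¬ p ∣ (C g).index := by
      rcases h.types g hg with e | e | e
      · rw [h.index_eq (e.trans hva.symm)]; exact hidx
      · exact ht g e
      · exact hs g e
    exact (mem_C.1 (normal_pgroup_le hVp hg' hv)).symm.eq
  intro t s h z hz hd
  obtain ⟨y, hy1, hy⟩ := h.hext
  obtain ⟨r, hr, hry, hrN, -⟩ := h.exists_prime_index hy1 N hNs
  have hpy : ¬ p ∣ (C y).index := fun e =>
    hp.not_dvd_one ((h.cop y z hy hz) ▸ Nat.dvd_gcd e hd)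
  have hne : p ≠ r := fun e => hpy (e ▸ hry)
  have hall : ∀ w : G, ¬ p * r ∣ (C w).index := by
    intro w hw
    have hpw := (Dvd.intro r rfl).trans hw
    have hrw := (Dvd.intro_left p rfl).trans hw
    rcases eq_or_ne w 1 with rfl | hw1
    · rw [Subgroup.index_eq_one.2 (eq_top_iff.2 fun v _ => mem_C.2 (Commute.one_right v))] at hpw
      exact hp.not_dvd_one hpw
    · rcases h.types w hw1 with e | e | e
      · exact hidx (h.index_eq (e.trans hva.symm) ▸ hpw)
      · exact hpy (h.index_eq (e.trans hy.symm) ▸ hpw)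
      · exact hr.not_dvd_one ((h.cop y w hy e) ▸ Nat.dvd_gcd hry hrw)
  rcases S4160.result p r hp hr hne ⟨z, hd⟩ ⟨y, hry⟩ hall with hc | hc
  swap
  · exact h.not_complement hNs hmin hr hrN hc
  -- the complement centralises `V`
  obtain ⟨P, K, hK, hc⟩ := hc
  haveI := hK
  obtain ⟨i, hi⟩ := IsPGroup.iff_card.1 P.2
  obtain ⟨j, hj⟩ := IsPGroup.iff_card.1 hVp
  have hdis : Disjoint K V := by
    rw [disjoint_iff]
    refine Subgroup.inf_eq_bot_of_coprime ?_
    rw [hj, ← hc.index_eq_card]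
    exact Nat.Coprime.pow_right _ ((Nat.Prime.coprime_iff_not_dvd hp).2 P.not_dvd_index).symm
  have hKW : K ≤ W V := fun k hk => mem_W.2 fun u hu =>
    Subgroup.commute_of_normal_of_disjoint K V hK hn hdis k u hk hu
  have hWs : Group.IsSolvable (W V) :=
    isSolvable_of_le (fun g hg => mem_C.2 (mem_W.1 hg v hv)) (h.solvable_C hv1)
  have hd' : (W V).index ∣ p ^ i :=
    (Subgroup.index_dvd_of_le hKW).trans (dvd_of_eq (by rw [hc.symm.index_eq_card, hi]))
  obtain ⟨n, -, hn'⟩ := (Nat.dvd_prime_pow hp).1 hd'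
  exact h.hns (isSolvable_of_normal_index_pow hWs hp hn')

end Cfsg.Agent.H63.RankThree
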