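import Cfsg.Agent.H63.RankThreeGen.Tri
import Cfsg.Agent.H54.PPart

/-!
# A minimal normal abelian subgroup in a non-solvable group with three centraliser orders
-/

set_option autoImplicit false

namespace Cfsg.Agent.H63.RankThree

universe u

variable {G : Type u} [Group G]

/-- Two elements with coprime classes: conjugates can be moved simultaneously. -/
theorem exists_simul [Finite G] {x y : G} (hcop : ((C x).index).Coprime (C y).index) (g₁ g₂ : G) :
    ∃ k : G, k * x * k⁻¹ = g₁ * x * g₁⁻¹ ∧ k * y * k⁻¹ = g₂ * y * g₂⁻¹ := by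
  obtain ⟨u, hu, q, hq, e⟩ := (H19.index_inf_of_coprime hcop).2 (g₁⁻¹ * g₂)
  refine ⟨g₁ * u, ?_, ?_⟩
  · calc g₁ * u * x * (g₁ * u)⁻¹ = g₁ * (u * x) * u⁻¹ * g₁⁻¹ := by group
      _ = g₁ * (x * u) * u⁻¹ * g₁⁻¹ := by rw [(mem_C.1 hu).eq]
      _ = g₁ * x * g₁⁻¹ := by group
  · have e' : g₂ = g₁ * u * q := by rw [mul_assoc, ← e, mul_inv_cancel_left]
    subst e'
    calc g₁ * u * y * (g₁ * u)⁻¹ = g₁ * u * (y * q) * q⁻¹ * (g₁ * u)⁻¹ := by group
      _ = g₁ * u * (q * y) * q⁻¹ * (g₁ * u)⁻¹ := by rw [(mem_C.1 hq).eq]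
      _ = g₁ * u * q * y * (g₁ * u * q)⁻¹ := by group

/-- A central element of prime order of a Sylow subgroup inside a normal subgroup. -/
theorem exists_central_normal [Finite G] {l : ℕ} [Fact l.Prime] (K : Subgroup G) [K.Normal]
    (hl : l ∣ Nat.card K) :
    ∃ (T : Sylow l G) (z : G), orderOf z = l ∧ z ∈ K ∧ z ∈ T ∧ (T : Subgroup G) ≤ C z := by
  obtain ⟨u, hu⟩ := exists_prime_orderOf_dvd_card' (G := K) l hl
  rw [← Subgroup.orderOf_coe] at hu
  obtain ⟨T, hT⟩ := (IsPGroup.of_card (G := Subgroup.zpowers (u : G)) (p := l) (n := 1)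
    (by rw [Nat.card_zpowers, hu, pow_one])).exists_le_sylow
  haveI : Group.IsNilpotent (T : Subgroup G) := T.2.isNilpotent
  haveI : (K.subgroupOf (T : Subgroup G)).Normal := Subgroup.normal_subgroupOf
  have hne : K.subgroupOf (T : Subgroup G) ≠ ⊥ := by
    intro e
    have hm : (⟨(u : G), hT (Subgroup.mem_zpowers _)⟩ : (T : Subgroup G)) ∈
        K.subgroupOf (T : Subgroup G) := u.2
    rw [e, Subgroup.mem_bot] at hm
    have : (u : G) = 1 := congrArg Subtype.val hm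
    rw [this, orderOf_one] at hu
    exact (Fact.out : l.Prime).one_lt.ne hu
  obtain ⟨⟨z, hzK, hzZ⟩, hz1⟩ := Subgroup.ne_bot_iff_exists_ne_one.1
    (H19.inf_center_ne_bot (K.subgroupOf (T : Subgroup G)) hne)
  have hz1' : (z : G) ≠ 1 := fun e => hz1 (Subtype.ext (Subtype.ext e))
  obtain ⟨k, q, hq, hk, -⟩ := exists_pow_prime hz1'
  obtain ⟨n, hn⟩ := IsPGroup.iff_orderOf.1 T.2 z
  have hql : q = l := by
    have : q ∣ l ^ n := by
      rw [← hk, ← hn, ← Subgroup.orderOf_coe]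
      exact orderOf_pow_dvd k
    exact (Nat.prime_dvd_prime_iff_eq hq Fact.out).1 (hq.dvd_of_dvd_pow this)
  refine ⟨T, (z : G) ^ k, hql ▸ hk, K.pow_mem hzK k, (T : Subgroup G).pow_mem z.2 k, fun x hx => ?_⟩
  exact mem_C.2 (Commute.pow_right (congrArg Subtype.val (Subgroup.mem_center_iff.1 hzZ ⟨x, hx⟩)) k)

theorem index_not_dvd_of_sylow_le [Finite G] {l : ℕ} [Fact l.Prime] (T : Sylow l G)
    {H : Subgroup G} (h : (T : Subgroup G) ≤ H) : ¬ l ∣ H.index := fun e =>
  T.not_dvd_index (e.trans (Subgroup.index_dvd_of_le h))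

/-- The standing data: `V` is a minimal normal abelian `p`-subgroup and `v ∈ V` has type `t` and
centralises a Sylow `p`-subgroup. -/
structure Rad (G : Type u) [Group G] (a t s p : ℕ) (V : Subgroup G) (v : G) : Prop where
  tri : Tri G a t s
  hp : p.Prime
  normal : V.Normal
  hVp : IsPGroup p V
  hVab : ∀ x ∈ V, ∀ y ∈ V, x * y = y * x
  hmin : ∀ M : Subgroup G, M.Normal → M ≤ V → M ≠ ⊥ → M = V
  hv : v ∈ V
  hv1 : v ≠ 1
  hvt : cc v = t
  hidx : ¬ p ∣ (C v).index

/-- Elements whose centraliser contains `V`. -/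
abbrev W (V : Subgroup G) : Subgroup G := Subgroup.centralizer (V : Set G)

theorem mem_W {V : Subgroup G} {g : G} : g ∈ W V ↔ ∀ u ∈ V, Commute g u := by
  rw [Subgroup.mem_centralizer_iff]
  exact forall₂_congr fun u _ => ⟨fun e => e.symm, fun e => e.eq.symm⟩

/-- The product of vectors of types `t` and `s` is not of type `t`. -/
theorem prod_ne [Finite G] {a t s : ℕ} {V : Subgroup G} (ht : Tri G a t s) (hn : V.Normal)
    (hmin : ∀ M : Subgroup G, M.Normal → M ≤ V → M ≠ ⊥ → M = V) {x y : G} (hx : x ∈ V) (hy : y ∈ V) (hxt : cc x = t) (hys : cc y = s)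
    (e : cc (x * y) = t) : False := by
  classical
  have hcop := ht.cop x y hxt hys
  have hsub : (fun g => g * y) '' (ConjClasses.mk x).carrier ⊆ (ConjClasses.mk (x * y)).carrier := by
    rintro _ ⟨g, hg, rfl⟩
    rw [ConjClasses.mem_carrier_iff_mk_eq, ConjClasses.mk_eq_mk_iff_isConj, isConj_iff] at hg ⊢
    obtain ⟨c, hc⟩ := hg
    obtain ⟨k, hk1, hk2⟩ := exists_simul hcop c⁻¹ 1
    refine ⟨k⁻¹, ?_⟩
    have hgx : g = c⁻¹ * x * c⁻¹⁻¹ := by rw [← hc]; group
    rw [hgx, ← hk1]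
    have hky : k * y * k⁻¹ = y := by rw [hk2]; group
    rw [show k⁻¹ * (k * x * k⁻¹ * y) * k⁻¹⁻¹ = x * (k⁻¹ * y * k) by group]
    congr 1
    conv_lhs => rw [← hky]
    group
  have hcard : ((fun g => g * y) '' (ConjClasses.mk x).carrier).ncard =
      (ConjClasses.mk (x * y)).carrier.ncard := by
    rw [Set.ncard_image_of_injective _ (mul_left_injective y), H86.ncard_carrier_eq_index,
      H86.ncard_carrier_eq_index]
    exact ht.index_eq (hxt.trans e.symm)
  have heq := Set.eq_of_subset_of_ncard_le hsub hcard.ge (Set.toFinite _)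
  have hin : ∀ g₁ g₂ : G, IsConj x (g₁ * x * g₁⁻¹ * (g₂ * y * g₂⁻¹) * y⁻¹) := by
    intro g₁ g₂
    obtain ⟨k, hk1, hk2⟩ := exists_simul hcop g₁ g₂
    have : (g₁ * x * g₁⁻¹) * (g₂ * y * g₂⁻¹) ∈ (ConjClasses.mk (x * y)).carrier := by
      rw [ConjClasses.mem_carrier_iff_mk_eq, ConjClasses.mk_eq_mk_iff_isConj, isConj_iff]
      refine ⟨k⁻¹, ?_⟩
      rw [← hk1, ← hk2]; group
    rw [← heq] at this
    obtain ⟨g, hg, hge⟩ := this
    rw [ConjClasses.mem_carrier_iff_mk_eq, ConjClasses.mk_eq_mk_iff_isConj] at hg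
    rw [← hge, mul_inv_cancel_right]
    exact hg.symm
  -- the stabiliser of the class of `x`
  have hinj : ∀ m : G, (∀ g, IsConj x g → IsConj x (g * m)) → ∀ n : ℕ, ∀ g, IsConj x g →
      IsConj x (g * m ^ n) := by
    intro m hm n
    induction n with
    | zero => simp
    | succ n ih => intro g hg; rw [pow_succ, ← mul_assoc]; exact hm _ (ih g hg)
  let M : Subgroup G :=
    { carrier := {m | m ∈ V ∧ ∀ g, IsConj x g → IsConj x (g * m)}
      mul_mem' := fun {m n} hm hn => ⟨V.mul_mem hm.1 hn.1, fun g hg => by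
        rw [← mul_assoc]; exact hn.2 _ (hm.2 g hg)⟩
      one_mem' := ⟨V.one_mem, fun g hg => by simpa using hg⟩
      inv_mem' := fun {m} hm => ⟨V.inv_mem hm.1, fun g hg => by
        have e : m⁻¹ = m ^ (orderOf m - 1) := inv_eq_of_mul_eq_one_right (by
          rw [← pow_succ', Nat.sub_add_cancel (orderOf_pos m), pow_orderOf_eq_one])
        rw [e]
        exact hinj m hm.2 _ g hg⟩ }
  haveI hMn : M.Normal := ⟨fun m hm k => ⟨hn.conj_mem m hm.1 k, fun g hg => by
    have h1 : IsConj x (k⁻¹ * g * k) := hg.trans (isConj_iff.2 ⟨k⁻¹, by group⟩)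
    exact (hm.2 _ h1).trans (isConj_iff.2 ⟨k, by group⟩)⟩⟩
  obtain ⟨g, hg⟩ : ∃ g : G, g * y * g⁻¹ ≠ y := by
    by_contra hall
    push Not at hall
    have hyZ : y ∈ Subgroup.center G := Subgroup.mem_center_iff.2 fun g =>
      mul_inv_eq_iff_eq_mul.1 (hall g)
    rw [ht.hZ, Subgroup.mem_bot] at hyZ
    exact ht.symm.ne_one_t hys hyZ
  have hd : g * y * g⁻¹ * y⁻¹ ∈ M := by
    refine ⟨V.mul_mem (hn.conj_mem y hy g) (V.inv_mem hy), fun w hw => ?_⟩
    obtain ⟨c, rfl⟩ := isConj_iff.1 hw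
    rw [← mul_assoc]
    exact hin c g
  have hMV : M = V := hmin M hMn (fun m hm => hm.1) fun e0 => hg (by
    rw [e0, Subgroup.mem_bot, mul_inv_eq_one] at hd
    exact hd)
  have hxM : x⁻¹ ∈ M := hMV ▸ V.inv_mem hx
  have := hxM.2 x (IsConj.refl x)
  rw [mul_inv_cancel] at this
  exact ht.ne_one_t hxt (isConj_one_left.1 this)

namespace Rad

variable [Finite G] {a t s p : ℕ} {V : Subgroup G} {v : G} (h : Rad G a t s p V v)
include h

theorem W_le : W V ≤ C v := fun g hg => mem_C.2 (mem_W.1 hg v h.hv)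

theorem W_normal : (W V).Normal := by
  haveI := h.normal
  infer_instance

theorem W_solvable : Group.IsSolvable (W V) :=
  isSolvable_of_le h.W_le (h.tri.solvable_C h.hv1)

theorem coprime_vec {u g : G} (hu : u ∈ V) (hg : (orderOf g).Coprime p) :
    (orderOf g).Coprime (orderOf u) := by
  haveI := Fact.mk h.hp
  obtain ⟨k, hk⟩ := IsPGroup.iff_orderOf.1 h.hVp ⟨u, hu⟩
  rw [show orderOf u = orderOf (⟨u, hu⟩ : V) from (Subgroup.orderOf_mk u hu).symm, hk]
  exact hg.pow_right k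

theorem V_le_C {u : G} (hu : u ∈ V) : V ≤ C u := fun x hx => mem_C.2 (h.hVab x hx u hu)

/-- `p'`-elements of type `t` centralise `V`. -/
theorem mem_W_of_t {g : G} (hg : cc g = t) : g ∈ W V := by
  haveI := Fact.mk h.hp
  haveI := h.normal
  have hle : V ≤ C g := normal_pgroup_le h.hVp (h.tri.index_eq (hg.trans h.hvt.symm) ▸ h.hidx)
  exact mem_W.2 fun u hu => (mem_C.1 (hle hu)).symm

theorem prod_ne_t {x y : G} (hx : x ∈ V) (hy : y ∈ V) (hxt : cc x = t) (hys : cc y = s)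
    (e : cc (x * y) = t) : False :=
  prod_ne h.tri h.normal h.hmin hx hy hxt hys e

theorem prod_ne_s {x y : G} (hx : x ∈ V) (hy : y ∈ V) (hxt : cc x = t) (hys : cc y = s)
    (e : cc (x * y) = s) : False :=
  prod_ne h.tri.symm h.normal h.hmin hy hx hys hxt (by rw [← h.hVab x hx y hy]; exact e)

end Rad

end Cfsg.Agent.H63.RankThree
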